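import Groth.Agent.L22.Big.Nef
import Mathlib.Topology.Instances.ENNReal.Lemmas
import Mathlib.Order.Filter.ENNReal

/-!
Volumes of invertible modules.
-/

set_option autoImplicit false
set_option backward.isDefEq.respectTransparency false
set_option linter.style.haveILetI false
set_option linter.unusedSectionVars false
universe u

open CategoryTheory CategoryTheory.Limits AlgebraicGeometry TopologicalSpace
open scoped ENNReal

noncomputable section

namespace Groth.L22.Big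

open Groth.L22.Inter Groth.L22.Nef Groth.L03.Euler Groth.L16
open Groth.L00.Tensor (tensorIso tensorAssoc tensorComm tensorUnitRight tensorUnitLeft tensorPowAdd)

variable (k : Type u) [Field k] {X : Scheme.{u}} [X.Over (Spec (CommRingCat.of k))]
  [IsProper (X ↘ Spec (CommRingCat.of k))] [IsIntegral X] {A L : X.Modules}

theorem exists_generic_section_pow {E : X.Modules} (hE : PicF.IsInvertible E)
    {s : Coh.structureModule X ⟶ E} (hs : genericPoint X ∈ CohB1.genLocus E s) :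
    ∀ m : ℕ, ∃ t : Coh.structureModule X ⟶ CohB1.tensorPow E m, genericPoint X ∈ CohB1.genLocus _ t
  | 0 => ⟨𝟙 _, by
      show genericPoint X ∈ CohB1.genLocus (Coh.structureModule X) (𝟙 _)
      rw [Groth.L18.Ample.genLocus_id]; trivial⟩
  | m + 1 => by
    obtain ⟨t, ht⟩ := exists_generic_section_pow hE hs m
    refine ⟨Groth.L18.GenLoc.tensHom t s, ?_⟩
    show genericPoint X ∈ CohB1.genLocus (CohB1.tensorMod (CohB1.tensorPow E m) E) _
    rw [Groth.L18.GenLoc.genLocus_tensHom (Groth.L18.Ample.isInvertible_tensorPow hE m) hE]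
    exact ⟨ht, hs⟩

/-- A nonzero section multiplies sections injectively. -/
theorem h0_le_tensor {G E : X.Modules} (hG : PicF.IsInvertible G) (hE : PicF.IsInvertible E)
    {s : Coh.structureModule X ⟶ E} (hs : genericPoint X ∈ CohB1.genLocus E s) :
    h0 k G ≤ h0 k (CohB1.tensorMod G E) := by
  haveI := Groth.L21.RR.isNoetherian_of_proper (X := X) k
  haveI := mono_mulSection k hG s hs
  exact h0_le_of_mono k (mulSection G s)
    (Groth.L18.Ample.isCoh_of_isInvertible (Groth.L18.GenLoc.isInvertible_tensor hG hE))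

include k in
/-- An ample submodule as a section. -/
theorem exists_section_of_mono (hA : PicF.IsInvertible A) (hL : PicF.IsInvertible L) (φ : A ⟶ L) [Mono φ] :
    ∃ (A' : X.Modules), PicF.IsInvertible A' ∧ Nonempty (CohB1.tensorMod A A' ≅ Coh.structureModule X) ∧
      ∃ t : Coh.structureModule X ⟶ CohB1.tensorMod L A', genericPoint X ∈ CohB1.genLocus _ t := by
  haveI := Groth.L21.RR.isNoetherian_of_proper (X := X) k
  obtain ⟨A', hA', ⟨ι⟩⟩ := Groth.L08.Cube.exists_inverse hA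
  haveI : Mono ((Groth.L00.Tensor.tensorRightF A').map φ) :=
    (shortExact_tensor hA' (S := ShortComplex.mk φ (cokernel.π φ) (cokernel.condition φ))
      { exact := ShortComplex.exact_cokernel φ }).mono_f
  let t : Coh.structureModule X ⟶ CohB1.tensorMod L A' :=
    ι.inv ≫ (Groth.L00.Tensor.tensorRightF A').map φ
  haveI : Mono t := mono_comp _ _
  refine ⟨A', hA', ⟨ι⟩, t, Groth.L22.CurveAmple.genericPoint_mem_genLocus
    (Groth.L18.GenLoc.isInvertible_tensor hL hA') fun h0 => ?_⟩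
  have hO := (CohSupport.len_eq_zero_iff (genericPoint X) (Coh.structureModule X)).not.1
    (by rw [Groth.L22.Nakai.len_structure']; exact one_ne_zero)
  have hinj := (Groth.L21.Mod.mono_iff_stalk_injective t).1 inferInstance (genericPoint X)
  rw [h0] at hinj
  refine hO fun hsub => hsub ⟨fun a b => hinj ?_⟩
  rw [Functor.map_zero]
  rfl

/-- An ample submodule of a power: `h⁰(L^m)` grows. -/
theorem growth_of_mono (hA : CohB1.IsAmple A) (hL : PicF.IsInvertible L) {n : ℕ}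
    (hn : topologicalKrullDim X = n) {ν : ℕ} (hν : 0 < ν) (φ : A ⟶ CohB1.tensorPow L ν) [Mono φ] :
    ∃ C : ℚ, 0 < C ∧ ∃ m₁ : ℕ, ∀ m : ℕ, m₁ ≤ m → C * (m : ℚ) ^ n ≤ (h0 k (CohB1.tensorPow L m) : ℚ) := by
  classical
  haveI := Groth.L21.RR.isNoetherian_of_proper (X := X) k
  have hN := Groth.L18.Ample.isInvertible_tensorPow hL ν
  obtain ⟨A', hA', ⟨ι⟩, t, ht⟩ := exists_section_of_mono k hA.1 hN φ
  have hLA := Groth.L18.GenLoc.isInvertible_tensor hN hA'
  have hpos : 0 < altT k (fun _ : Fin n => A) (Coh.structureModule X) / n.factorial :=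
    div_pos (altT_ample_pos k hA hn) (by positivity)
  set c := altT k (fun _ : Fin n => A) (Coh.structureModule X) / n.factorial / 2 with hc
  choose q₀ hq₀ using fun r : ℕ =>
    exists_le_h0 k hA (Groth.L18.Ample.isInvertible_tensorPow hL r) hn.le (t := c) (by rw [hc]; linarith)
  let Q := (Finset.range ν).sup q₀ + 1
  refine ⟨c / (2 * ν : ℚ) ^ n, div_pos (by rw [hc]; linarith) (by positivity), ν * Q, fun m hm => ?_⟩
  let q := m / ν
  let r := m % ν
  have hr : r < ν := Nat.mod_lt _ hν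
  have hmq : ν * q + r = m := Nat.div_add_mod m ν
  have hQq : Q ≤ q := (Nat.le_div_iff_mul_le hν).2 (by rwa [mul_comm])
  have hq1 : 1 ≤ q := le_trans (Nat.le_add_left 1 _) hQq
  have h1 := hq₀ r q (le_trans (Finset.le_sup (f := q₀) (Finset.mem_range.2 hr))
    (le_trans (Nat.le_succ _) hQq))
  obtain ⟨tq, htq⟩ := exists_generic_section_pow hLA ht q
  have hG : PicF.IsInvertible (CohB1.tensorMod (CohB1.tensorPow L r) (CohB1.tensorPow A q)) :=
    isInvertible_mix hL hA.1 r q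
  have h2 := h0_le_tensor k hG (Groth.L18.Ample.isInvertible_tensorPow hLA q) htq
  have h3 : h0 k (CohB1.tensorMod (CohB1.tensorMod (CohB1.tensorPow L r) (CohB1.tensorPow A q))
      (CohB1.tensorPow (CohB1.tensorMod (CohB1.tensorPow L ν) A') q)) = h0 k (CohB1.tensorPow L m) :=
    h0_iso k (tensorAssoc _ _ _ ≪≫ tensorIso (Iso.refl _)
      ((Groth.L00.Tensor.tensorPowTensor A _ q).symm ≪≫ Groth.L00.Tensor.tensorPowIso
        (tensorIso (Iso.refl A) (tensorComm _ A') ≪≫ (tensorAssoc _ _ _).symm ≪≫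
          tensorIso ι (Iso.refl _) ≪≫ tensorUnitLeft _) q ≪≫ Groth.L00.Tensor.tensorPowMul L ν q) ≪≫
      tensorPowAdd L r (ν * q) ≪≫ eqToIso (by rw [add_comm, hmq]))
  rw [h3] at h2
  have h4 : (m : ℚ) ^ n ≤ (2 * ν : ℚ) ^ n * (q : ℚ) ^ n := by
    rw [← mul_pow]
    refine pow_le_pow_left₀ (Nat.cast_nonneg _) ?_ _
    have : ν ≤ ν * q := Nat.le_mul_of_pos_right ν hq1
    have : m ≤ 2 * (ν * q) := by omega
    rw [mul_assoc]
    exact_mod_cast this
  calc c / (2 * ν : ℚ) ^ n * (m : ℚ) ^ n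
      ≤ c / (2 * ν : ℚ) ^ n * ((2 * ν : ℚ) ^ n * (q : ℚ) ^ n) :=
        mul_le_mul_of_nonneg_left h4 (div_nonneg (by rw [hc]; linarith) (by positivity))
    _ = c * (q : ℚ) ^ n := by field_simp
    _ ≤ _ := h1
    _ ≤ _ := by exact_mod_cast h2

/-- Big means some power contains every ample module. -/
theorem exists_section_inv_tensor (hA : CohB1.IsAmple A) (hL : PicF.IsInvertible L) {B : X.Modules}
    (hB : CohB1.IsAmple B) {B' : X.Modules} (hB' : PicF.IsInvertible B')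
    {ν : ℕ} (hν : 0 < ν) (φ : B ⟶ CohB1.tensorPow L ν) [Mono φ] :
    ∃ m : ℕ, 0 < m ∧ 0 < h0 k (CohB1.tensorMod B' (CohB1.tensorPow L m)) := by
  haveI := Groth.L21.RR.isNoetherian_of_proper (X := X) k
  have hN := Groth.L18.Ample.isInvertible_tensorPow hL ν
  obtain ⟨C', hC', ⟨ι⟩, t, ht⟩ := exists_section_of_mono k hB.1 hN φ
  obtain ⟨q₀, hq₀⟩ := Groth.L18.Ample.exists_forall_isGloballyGenerated hB B'
    (Groth.L18.Ample.isCoh_of_isInvertible hB')
  let q := q₀ + 1
  have hG : PicF.IsInvertible (CohB1.tensorMod B' (CohB1.tensorPow B q)) :=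
    Groth.L18.GenLoc.isInvertible_tensor hB' (Groth.L18.Ample.isInvertible_tensorPow hB.1 q)
  obtain ⟨σ, hσ⟩ := Groth.L18.Ample.exists_genLocus_mem_of_gg hG (hq₀ q (Nat.le_succ _)) (genericPoint X)
  have hLC := Groth.L18.GenLoc.isInvertible_tensor hN hC'
  obtain ⟨tq, htq⟩ := exists_generic_section_pow hLC ht q
  have hs : genericPoint X ∈ CohB1.genLocus _ (Groth.L18.GenLoc.tensHom σ tq) := by
    rw [Groth.L18.GenLoc.genLocus_tensHom hG (Groth.L18.Ample.isInvertible_tensorPow hLC q)]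
    exact ⟨hσ, htq⟩
  refine ⟨ν * q, Nat.mul_pos hν (Nat.succ_pos _), ?_⟩
  rw [← h0_iso k (tensorAssoc _ _ _ ≪≫ tensorIso (Iso.refl B')
    ((Groth.L00.Tensor.tensorPowTensor B _ q).symm ≪≫ Groth.L00.Tensor.tensorPowIso
      (tensorIso (Iso.refl B) (tensorComm _ C') ≪≫ (tensorAssoc _ _ _).symm ≪≫
        tensorIso ι (Iso.refl _) ≪≫ tensorUnitLeft _) q ≪≫ Groth.L00.Tensor.tensorPowMul L ν q))]
  refine lt_of_lt_of_le ?_ (h0_le_tensor k (Groth.L18.Ample.isInvertible_structureModule X)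
    (Groth.L18.GenLoc.isInvertible_tensor hG (Groth.L18.Ample.isInvertible_tensorPow hLC q)) hs |>.trans_eq
      (h0_iso k (tensorUnitLeft _)))
  rw [h0_def]
  haveI := ProperFinite.finite_HH k (CohClosedPush.isCoh_structure (X := X)) 0
  refine Module.finrank_pos_iff.2 ⟨⟨(Groth.L21.RR.e0 _).symm
    (Groth.L18.GenLoc.secOf (𝟙 (Coh.structureModule X))), 0, fun h => ?_⟩⟩
  have h1 := congrArg (Groth.L21.RR.e0 (Coh.structureModule X)) h
  rw [AddEquiv.apply_symm_apply, map_zero] at h1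
  have h2 : (1 : Γ(X, ⊤)) = 0 := h1
  have h3 := congrArg (X.presheaf.germ ⊤ (genericPoint X) trivial) h2
  rw [map_one, map_zero] at h3
  exact one_ne_zero h3

/-- A nonzero section of `A'⊗L^m` is a monomorphism `A ⟶ L^m`. -/
theorem exists_mono_of_section (hA : PicF.IsInvertible A) (hL : PicF.IsInvertible L) {A' : X.Modules}
    (ι : CohB1.tensorMod A' A ≅ Coh.structureModule X) {m : ℕ}
    (h : 0 < h0 k (CohB1.tensorMod A' (CohB1.tensorPow L m))) :
    ∃ φ : A ⟶ CohB1.tensorPow L m, Mono φ := by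
  haveI := Groth.L21.RR.isNoetherian_of_proper (X := X) k
  have hA' := isInvertible_inv hA ⟨ι⟩
  have hG := Groth.L18.GenLoc.isInvertible_tensor hA' (Groth.L18.Ample.isInvertible_tensorPow hL m)
  obtain ⟨t, ht⟩ := exists_nonzero_of_h0 k h
  haveI := mono_mulSection k hA t (Groth.L22.CurveAmple.genericPoint_mem_genLocus hG ht)
  exact ⟨mulSection A t ≫ ((tensorAssoc _ _ _).symm ≪≫ tensorIso (tensorComm A A' ≪≫ ι) (Iso.refl _) ≪≫
    tensorUnitLeft _).hom, mono_comp _ _⟩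

/-- `h⁰(F ⊗ L^m) = O((m+1)^d)`. -/
theorem exists_h0_pow_le (hA : CohB1.IsAmple A) (hL : PicF.IsInvertible L) {F : X.Modules} (hF : Coh.IsCoh F)
    {d : ℕ} (hd : topologicalKrullDim X ≤ d) :
    ∃ C : ℕ, ∀ m : ℕ, h0 k (CohB1.tensorMod F (CohB1.tensorPow L m)) ≤ C * (m + 1) ^ d := by
  haveI := Groth.L21.RR.isNoetherian_of_proper (X := X) k
  obtain ⟨C, hC⟩ := exists_h0_le k hA (L := ![L]) (Fin.forall_fin_one.2 hL) hF (d := d)
    ((topologicalKrullDim_set_mono (Set.subset_univ _)).trans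
      ((IsHomeomorph.topologicalKrullDim_eq _ (Homeomorph.Set.univ X).isHomeomorph).trans_le hd))
  refine ⟨C, fun m => ?_⟩
  rw [← h0_iso k (tensorIso (Iso.refl F) (show Curv2.tensorPows (Coh.structureModule X) 1 ![L] ![m] ≅
    CohB1.tensorPow L m from tensorUnitLeft _))]
  simpa using hC ![m]

/-- The volume, without `d!`. -/
def vol (L : X.Modules) (d : ℕ) : ℝ≥0∞ :=
  Filter.limsup (fun m : ℕ => (h0 k (CohB1.tensorPow L m) : ℝ≥0∞) / (m : ℝ≥0∞) ^ d) Filter.atTop

theorem exists_mono_of_vol_pos (hA : CohB1.IsAmple A) (hL : PicF.IsInvertible L) {d : ℕ}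
    (hd : topologicalKrullDim X = d) (h : 0 < vol k L d) :
    ∃ (ν : ℕ) (B : X.Modules) (φ : B ⟶ CohB1.tensorPow L ν), 0 < ν ∧ CohB1.IsAmple B ∧ Mono φ := by
  refine exists_mono_of_growth k hA hL hd fun hd0 B => ?_
  obtain ⟨e, rfl⟩ := Nat.exists_eq_succ_of_ne_zero hd0.ne'
  obtain ⟨c, hc0, hc⟩ := ENNReal.lt_iff_exists_nnreal_btwn.1 h
  have hc0' : (0 : NNReal) < c := by exact_mod_cast hc0
  have hfreq := Filter.frequently_lt_of_lt_limsup (by isBoundedDefault) hc
  obtain ⟨N, hN⟩ := exists_nat_gt ((B : NNReal) * 3 ^ e / c)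
  obtain ⟨m, hm, hlt⟩ := Filter.frequently_atTop.1 hfreq (N + 1)
  refine ⟨m, by omega, ?_⟩
  rw [ENNReal.lt_div_iff_mul_lt (Or.inl (pow_ne_zero _ (Nat.cast_ne_zero.2 (by omega))))
    (Or.inl (by simp))] at hlt
  have hlt' : c * (m : NNReal) ^ (e + 1) < (h0 k (CohB1.tensorPow L m) : NNReal) := by exact_mod_cast hlt
  rw [Nat.succ_sub_one]
  have h5 : ((B * (m + 2) ^ e : ℕ) : NNReal) < (h0 k (CohB1.tensorPow L m) : NNReal) := by
    refine lt_of_le_of_lt ?_ hlt'
    rw [div_lt_iff₀ hc0'] at hN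
    have h6 : ((B * (m + 2) ^ e : ℕ) : NNReal) ≤ (B : NNReal) * 3 ^ e * (m : NNReal) ^ e := by
      push_cast
      rw [mul_assoc, ← mul_pow]
      gcongr
      have : m + 2 ≤ 3 * m := by omega
      exact_mod_cast this
    refine h6.trans ?_
    rw [pow_succ, mul_comm ((m : NNReal) ^ e), ← mul_assoc]
    refine mul_le_mul_of_nonneg_right (hN.le.trans ?_) zero_le
    rw [mul_comm]
    gcongr
    omega
  exact_mod_cast h5

theorem liminf_pos_of_growth {d : ℕ} {C : ℚ} (hC : 0 < C) {m₁ : ℕ}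
    (h : ∀ m : ℕ, m₁ ≤ m → C * (m : ℚ) ^ d ≤ (h0 k (CohB1.tensorPow L m) : ℚ)) :
    0 < Filter.liminf (fun m : ℕ => (h0 k (CohB1.tensorPow L m) : ℝ≥0∞) / (m : ℝ≥0∞) ^ d) Filter.atTop := by
  have hC' : (0 : ℝ) < (C : ℝ) := by exact_mod_cast hC
  refine lt_of_lt_of_le (ENNReal.ofReal_pos.2 hC') ?_
  refine Filter.le_liminf_of_le (by isBoundedDefault) ?_
  filter_upwards [Filter.eventually_ge_atTop (m₁ + 1)] with m hm
  have hm0 : (0 : ℝ) < (m : ℝ) := by exact_mod_cast (by omega : 0 < m)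
  rw [ENNReal.le_div_iff_mul_le (Or.inl (pow_ne_zero _ (Nat.cast_ne_zero.2 (by omega)))) (Or.inl (by simp)),
    ← ENNReal.ofReal_natCast m, ← ENNReal.ofReal_pow hm0.le, ← ENNReal.ofReal_mul hC'.le,
    ← ENNReal.ofReal_natCast (h0 k (CohB1.tensorPow L m))]
  exact ENNReal.ofReal_le_ofReal (by exact_mod_cast h m (by omega))

theorem vol_lt_top (hA : CohB1.IsAmple A) (hL : PicF.IsInvertible L) {d : ℕ}
    (hd : topologicalKrullDim X ≤ d) : vol k L d < ⊤ := by
  haveI := Groth.L21.RR.isNoetherian_of_proper (X := X) k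
  obtain ⟨C, hC⟩ := exists_h0_pow_le k hA hL (CohClosedPush.isCoh_structure (X := X)) hd
  refine lt_of_le_of_lt (Filter.limsup_le_of_le (by isBoundedDefault) ?_)
    (ENNReal.natCast_lt_top (C * 2 ^ d))
  filter_upwards [Filter.eventually_ge_atTop 1] with m hm
  refine ENNReal.div_le_of_le_mul ?_
  have h1 := hC m
  rw [h0_iso k (tensorUnitLeft _)] at h1
  have h2 : C * (m + 1) ^ d ≤ C * 2 ^ d * m ^ d := by
    rw [mul_assoc, ← mul_pow]
    exact Nat.mul_le_mul_left C (Nat.pow_le_pow_left (by omega) d)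
  exact_mod_cast h1.trans h2

/-- The volume is homogeneous. -/
theorem vol_pow (hA : CohB1.IsAmple A) (hL : PicF.IsInvertible L) {d : ℕ}
    (hd : topologicalKrullDim X = d) {a : ℕ} (ha : 0 < a) :
    vol k (CohB1.tensorPow L a) d = (a : ℝ≥0∞) ^ d * vol k L d := by
  haveI := Groth.L21.RR.isNoetherian_of_proper (X := X) k
  have had : (a : ℝ≥0∞) ^ d ≠ ⊤ := by simp
  have had0 : (a : ℝ≥0∞) ^ d ≠ 0 := by positivity
  have hsub : vol k (CohB1.tensorPow L a) d ≤ (a : ℝ≥0∞) ^ d * vol k L d := by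
    have e : ∀ q : ℕ, (h0 k (CohB1.tensorPow (CohB1.tensorPow L a) q) : ℝ≥0∞) / (q : ℝ≥0∞) ^ d =
        (a : ℝ≥0∞) ^ d * ((h0 k (CohB1.tensorPow L (a * q)) : ℝ≥0∞) / ((a * q : ℕ) : ℝ≥0∞) ^ d) := fun q => by
      rw [h0_iso k (Groth.L00.Tensor.tensorPowMul L a q), Nat.cast_mul, mul_pow, ← mul_div_assoc,
        ENNReal.mul_div_mul_left _ _ had0 had]
    rw [vol, funext e, ENNReal.limsup_const_mul_of_ne_top had]
    gcongr
    have hT : Filter.Tendsto (fun q : ℕ => a * q) Filter.atTop Filter.atTop :=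
      Filter.tendsto_atTop_mono (fun q => Nat.le_mul_of_pos_left q ha) Filter.tendsto_id
    exact (Filter.limsup_comp (fun m : ℕ => (h0 k (CohB1.tensorPow L m) : ℝ≥0∞) / (m : ℝ≥0∞) ^ d)
      (fun q : ℕ => a * q) Filter.atTop).le.trans (Filter.limsup_le_limsup_of_le hT)
  refine le_antisymm hsub ?_
  rcases eq_or_ne (vol k L d) 0 with h0' | h0'
  · rw [h0', mul_zero]; exact bot_le
  obtain ⟨ν, B, φ, hν, hB, hφ⟩ := exists_mono_of_vol_pos k hA hL hd (pos_iff_ne_zero.2 h0')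
  haveI := hφ
  obtain ⟨c, hc, N₀, hN₀⟩ := growth_of_mono k hB hL hd hν φ
  have heff : ∀ j, N₀ + 1 ≤ j → ∃ s : Coh.structureModule X ⟶ CohB1.tensorPow L j,
      genericPoint X ∈ CohB1.genLocus _ s := fun j hj => by
    have h2 : (0 : ℚ) < (h0 k (CohB1.tensorPow L j) : ℚ) :=
      lt_of_lt_of_le (mul_pos hc (pow_pos (by exact_mod_cast (by omega : 0 < j)) _)) (hN₀ j (by omega))
    obtain ⟨s, hs⟩ := exists_nonzero_of_h0 k (N := CohB1.tensorPow L j) (by exact_mod_cast h2)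
    exact ⟨s, Groth.L22.CurveAmple.genericPoint_mem_genLocus (Groth.L18.Ample.isInvertible_tensorPow hL j) hs⟩
  let J := N₀ + 1
  have hshift : ∀ m : ℕ, ∃ q : ℕ, m + J ≤ a * q ∧ a * q ≤ m + J + a ∧
      h0 k (CohB1.tensorPow L m) ≤ h0 k (CohB1.tensorPow (CohB1.tensorPow L a) q) := fun m => by
    refine ⟨(m + J) / a + 1, ?_, ?_, ?_⟩
    · have := Nat.div_add_mod (m + J) a
      have := Nat.mod_lt (m + J) ha
      rw [Nat.mul_succ]; omega
    · have := Nat.div_add_mod (m + J) a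
      rw [Nat.mul_succ]; omega
    · obtain ⟨j, hj⟩ : ∃ j, a * ((m + J) / a + 1) = m + j ∧ J ≤ j := by
        have := Nat.div_add_mod (m + J) a
        have := Nat.mod_lt (m + J) ha
        exact ⟨a * ((m + J) / a + 1) - m, by rw [Nat.mul_succ]; omega, by rw [Nat.mul_succ]; omega⟩
      obtain ⟨s, hs⟩ := heff j hj.2
      refine (h0_le_tensor k (Groth.L18.Ample.isInvertible_tensorPow hL m)
        (Groth.L18.Ample.isInvertible_tensorPow hL j) hs).trans_eq ?_
      exact h0_iso k (tensorPowAdd L m j ≪≫ eqToIso (by rw [hj.1]) ≪≫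
        (Groth.L00.Tensor.tensorPowMul L a ((m + J) / a + 1)).symm)
  have key : ∀ b, vol k (CohB1.tensorPow L a) d < b → (a : ℝ≥0∞) ^ d * vol k L d ≤ b := by
    intro b hb
    rcases eq_or_ne b ⊤ with rfl | hbt
    · exact le_top
    obtain ⟨q₁, hq₁⟩ := Filter.eventually_atTop.1 (Filter.eventually_lt_of_limsup_lt hb (by isBoundedDefault))
    let g : ℕ → ℝ≥0∞ := fun m => ENNReal.ofReal ((1 + ((J + a : ℕ) : ℝ) / m) ^ d)
    have hev : ∀ᶠ m : ℕ in Filter.atTop,
        (a : ℝ≥0∞) ^ d * ((h0 k (CohB1.tensorPow L m) : ℝ≥0∞) / (m : ℝ≥0∞) ^ d) ≤ b * g m := by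
      filter_upwards [Filter.eventually_ge_atTop (a * (q₁ + 1) + 1)] with m hm
      obtain ⟨q, hq, hq', hle⟩ := hshift m
      have hqq : q₁ ≤ q := by
        by_contra hlt
        have h7 : a * q ≤ a * (q₁ + 1) := Nat.mul_le_mul_left a (by omega)
        omega
      have hq0 : 0 < q := Nat.pos_of_ne_zero fun h0q => by rw [h0q, Nat.mul_zero] at hq; omega
      have hb' := (hq₁ q hqq).le
      rw [ENNReal.div_le_iff (pow_ne_zero _ (Nat.cast_ne_zero.2 hq0.ne')) (by simp)] at hb'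
      have h8 : (h0 k (CohB1.tensorPow L m) : ℝ≥0∞) ≤ b * (q : ℝ≥0∞) ^ d :=
        le_trans (by exact_mod_cast hle) hb'
      have hm0 : (0 : ℝ) < m := by exact_mod_cast (by omega : 0 < m)
      have h9 : (a : ℝ≥0∞) ^ d * ((q : ℝ≥0∞) ^ d / (m : ℝ≥0∞) ^ d) ≤ g m := by
        rw [← mul_div_assoc, ENNReal.div_le_iff (pow_ne_zero _ (Nat.cast_ne_zero.2 (by omega))) (by simp),
          ← mul_pow]
        simp only [g]
        rw [ENNReal.ofReal_pow (by positivity), ← mul_pow]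
        refine pow_le_pow_left₀ zero_le ?_ _
        rw [← ENNReal.ofReal_natCast m, ← ENNReal.ofReal_mul (by positivity), ← Nat.cast_mul,
          ← ENNReal.ofReal_natCast]
        refine ENNReal.ofReal_le_ofReal ?_
        rw [one_add_mul, div_mul_cancel₀ _ hm0.ne']
        have : a * q ≤ m + (J + a) := by omega
        exact_mod_cast this
      calc (a : ℝ≥0∞) ^ d * ((h0 k (CohB1.tensorPow L m) : ℝ≥0∞) / (m : ℝ≥0∞) ^ d)
          ≤ (a : ℝ≥0∞) ^ d * (b * (q : ℝ≥0∞) ^ d / (m : ℝ≥0∞) ^ d) := by gcongr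
        _ = b * ((a : ℝ≥0∞) ^ d * ((q : ℝ≥0∞) ^ d / (m : ℝ≥0∞) ^ d)) := by
            rw [mul_div_assoc, mul_left_comm]
        _ ≤ b * g m := by gcongr
    have hlim : Filter.Tendsto (fun m => b * g m) Filter.atTop (nhds b) := by
      have h1 : Filter.Tendsto (fun m : ℕ => (1 + ((J + a : ℕ) : ℝ) / m) ^ d) Filter.atTop (nhds 1) := by
        simpa using ((tendsto_const_nhds (x := (1 : ℝ))).add
          (tendsto_const_div_atTop_nhds_zero_nat (((J + a : ℕ) : ℝ)))).pow d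
      simpa [g] using ENNReal.Tendsto.const_mul (ENNReal.tendsto_ofReal h1) (Or.inr hbt)
    rw [vol, ← ENNReal.limsup_const_mul_of_ne_top had]
    exact (Filter.limsup_le_limsup hev).trans_eq hlim.limsup_eq
  exact le_of_forall_gt_imp_ge_of_dense key

/-- Effective twists increase the volume. -/
theorem vol_le_tensor (hL : PicF.IsInvertible L) {E : X.Modules} (hE : PicF.IsInvertible E)
    {s : Coh.structureModule X ⟶ E} (hs : s ≠ 0) (d : ℕ) : vol k L d ≤ vol k (CohB1.tensorMod L E) d := by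
  refine Filter.limsup_le_limsup (Filter.Eventually.of_forall fun m => ?_)
  obtain ⟨t, ht⟩ := exists_generic_section_pow hE
    (Groth.L22.CurveAmple.genericPoint_mem_genLocus hE hs) m
  have h1 := (h0_le_tensor k (Groth.L18.Ample.isInvertible_tensorPow hL m)
    (Groth.L18.Ample.isInvertible_tensorPow hE m) ht).trans_eq
      (h0_iso k (Groth.L00.Tensor.tensorPowTensor L E m).symm)
  exact ENNReal.div_le_div_right (by exact_mod_cast h1) _

end Groth.L22.Big
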