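import Groth.Agent.L22.Big.Basic

/-!
Bigness of nef invertible modules.
-/

set_option autoImplicit false
set_option backward.isDefEq.respectTransparency false
set_option linter.style.haveILetI false
set_option linter.unusedSectionVars false
universe u

open CategoryTheory CategoryTheory.Limits AlgebraicGeometry TopologicalSpace

noncomputable section

namespace Groth.L22.Big

open Groth.L22.Inter Groth.L22.Nef Groth.L03.Euler Groth.L16
open Groth.L00.Tensor (tensorIso tensorAssoc tensorComm tensorUnitRight tensorUnitLeft tensorPowAdd)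

variable (k : Type u) [Field k] {X : Scheme.{u}} [X.Over (Spec (CommRingCat.of k))]
  [IsProper (X ↘ Spec (CommRingCat.of k))] [IsIntegral X] {A L : X.Modules}

theorem nonempty_two (L A : X.Modules) (m q : ℕ) :
    Nonempty (Curv2.tensorPows (Coh.structureModule X) 2 ![L, A] ![m, q] ≅
      CohB1.tensorMod (CohB1.tensorPow L m) (CohB1.tensorPow A q)) :=
  ⟨tensorIso (tensorUnitLeft _) (Iso.refl _)⟩

/-- The sections gained by an effective twist are few. -/
theorem exists_h0_sub_le (hA : CohB1.IsAmple A) (hL : PicF.IsInvertible L)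
    (s : Coh.structureModule X ⟶ A) (hs : s ≠ 0) {d : ℕ} (hd : topologicalKrullDim X ≤ (d + 1 : ℕ)) :
    ∃ C : ℕ, ∀ m q : ℕ, h0 k (CohB1.tensorMod (CohB1.tensorPow L m) (CohB1.tensorPow A q)) ≤
      h0 k (CohB1.tensorPow L m) + q * (C * (m + q + 1) ^ d) := by
  haveI := Groth.L21.RR.isNoetherian_of_proper (X := X) k
  obtain ⟨S, hS, h1, h2, hD, hη⟩ := exists_section_seq k hA.1 s hs
  have hdD : topologicalKrullDim (CohB1.support S.X₃) ≤ d :=
    dim_le_of_generic_notMem (CohSupport.isClosed_support _ hD.2) hη hd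
  obtain ⟨C, hC⟩ := exists_h0_le k hA (L := ![L, A])
    (Fin.forall_fin_two.2 ⟨hL, hA.1⟩) hD hdD
  refine ⟨C, fun m q => ?_⟩
  induction q with
  | zero => exact (h0_iso k (tensorUnitRight _)).trans_le (Nat.le_add_right _ _)
  | succ q ih =>
    obtain ⟨π⟩ := nonempty_two L A m q
    let G := CohB1.tensorMod (CohB1.tensorPow L m) (CohB1.tensorPow A q)
    have hG : PicF.IsInvertible G := Groth.L18.GenLoc.isInvertible_tensor
      (Groth.L18.Ample.isInvertible_tensorPow hL m) (Groth.L18.Ample.isInvertible_tensorPow hA.1 q)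
    have hT := shortExact_tensor hG hS
    have c1 : Coh.IsCoh S.X₁ := h1 ▸ CohClosedPush.isCoh_structure
    have c2 : Coh.IsCoh S.X₂ := h2 ▸ Groth.L18.Ample.isCoh_of_isInvertible hA.1
    have key : h0 k (CohB1.tensorMod S.X₂ G) ≤ h0 k (CohB1.tensorMod S.X₁ G) + h0 k (CohB1.tensorMod S.X₃ G) :=
      h0_le_add k hT (isCoh_tensor hG c1) (isCoh_tensor hG c2) (isCoh_tensor hG hD)
    have e2 : h0 k (CohB1.tensorMod S.X₂ G) =
        h0 k (CohB1.tensorMod (CohB1.tensorPow L m) (CohB1.tensorPow A (q + 1))) := by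
      rw [h2]; exact h0_iso k (tensorComm A G ≪≫ tensorAssoc _ _ _)
    have e1 : h0 k (CohB1.tensorMod S.X₁ G) = h0 k G := by
      rw [h1]; exact h0_iso k (tensorUnitLeft G)
    have e3 : h0 k (CohB1.tensorMod S.X₃ G) ≤ C * (m + q + 1) ^ d := by
      rw [← h0_iso k (tensorIso (Iso.refl S.X₃) π)]
      simpa [Fin.sum_univ_two] using hC ![m, q]
    rw [e1, e2] at key
    have h4 : C * (m + q + 1) ^ d ≤ C * (m + (q + 1) + 1) ^ d :=
      Nat.mul_le_mul_left _ (Nat.pow_le_pow_left (by omega) _)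
    rw [Nat.succ_mul]
    have h5 := Nat.mul_le_mul_left q h4
    exact key.trans (Nat.add_le_add (ih.trans (Nat.add_le_add_left h5 _)) (e3.trans h4)) |>.trans
      (by omega)

/-- `h⁰(L^r ⊗ G^q)` grows with the top intersection number of an ample `G`. -/
theorem exists_le_h0 {G B : X.Modules} (hG : CohB1.IsAmple G) (hB : PicF.IsInvertible B) {n : ℕ}
    (hn : topologicalKrullDim X ≤ n) {t : ℚ} (ht : t < altT k (fun _ : Fin n => G) (Coh.structureModule X) / n.factorial) :
    ∃ q₀ : ℕ, ∀ q : ℕ, q₀ ≤ q → t * (q : ℚ) ^ n ≤ (h0 k (CohB1.tensorMod B (CohB1.tensorPow G q)) : ℚ) := by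
  classical
  haveI := Groth.L21.RR.isNoetherian_of_proper (X := X) k
  have hBc := Groth.L18.Ample.isCoh_of_isInvertible hB
  have hBd : topologicalKrullDim (CohB1.support B) ≤ n :=
    (topologicalKrullDim_set_mono (Set.subset_univ _)).trans
      ((IsHomeomorph.topologicalKrullDim_eq _ (Homeomorph.Set.univ X).isHomeomorph).trans_le hn)
  obtain ⟨P, hPd, hP⟩ := exists_isHilbPoly (k := k) hG.1 hBc (d := n) hBd
  have hdiag := Groth.L22.Nakai.altT_diag k G hP hPd
  have hBO : altT k (fun _ : Fin n => G) B = altT k (fun _ : Fin n => G) (Coh.structureModule X) := by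
    rw [← altT_tensor_invertible k (fun _ => hG.1) hB CohClosedPush.isCoh_structure
      ((Groth.L22.Nakai.dim_support_structure X).trans_le hn)]
    exact altT_iso k _ (tensorUnitLeft B).symm
  rw [← hBO, hdiag, mul_comm, mul_div_assoc, div_self (by positivity), mul_one] at ht
  obtain ⟨z₀, hz₀⟩ := Rees.RelVanish.exists_vanishing (X ↘ Spec (CommRingCat.of k)) hG hBc
  let S := ∑ i ∈ Finset.range n, |P.coeff i|
  obtain ⟨q₁, hq₁⟩ := exists_nat_ge (S / (P.coeff n - t))
  refine ⟨z₀ + q₁ + 1, fun q hq => ?_⟩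
  have heq : (h0 k (CohB1.tensorMod B (CohB1.tensorPow G q)) : ℚ) = P.eval (q : ℚ) := by
    rw [← hP q, show Curv2.euler k X (ShStab.twist X G B q) =
      Curv2.euler k X (CohB1.tensorMod B (CohB1.tensorPow G q)) from rfl,
      euler_eq_sum (k := k) (N := 1) fun n hn => hz₀ q (by omega) n hn, Finset.sum_range_one,
      pow_zero, one_mul, h0_def]
    push_cast
    rfl
  rw [heq, Polynomial.eval_eq_sum_range' (Nat.lt_succ_of_le hPd), Finset.sum_range_succ]
  have hq1 : (1 : ℚ) ≤ q := by exact_mod_cast (by omega : 1 ≤ q)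
  have hlow : ∀ i ∈ Finset.range n, -(|P.coeff i| * ((q : ℚ) ^ n / q)) ≤ P.coeff i * (q : ℚ) ^ i := by
    intro i hi
    have h1 : (q : ℚ) ^ i ≤ (q : ℚ) ^ n / q := by
      rw [le_div_iff₀ (by linarith), ← pow_succ]
      exact pow_le_pow_right₀ hq1 (Finset.mem_range.1 hi)
    have h2 := mul_le_mul_of_nonneg_left h1 (abs_nonneg (P.coeff i))
    have h3 : -(|P.coeff i| * (q : ℚ) ^ i) ≤ P.coeff i * (q : ℚ) ^ i := by
      rw [← neg_mul]; exact mul_le_mul_of_nonneg_right (neg_abs_le _) (by positivity)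
    linarith
  have hsum := Finset.sum_le_sum hlow
  rw [Finset.sum_neg_distrib, ← Finset.sum_mul] at hsum
  have h6 : S ≤ (q : ℚ) * (P.coeff n - t) := by
    have : S / (P.coeff n - t) ≤ (q : ℚ) := hq₁.trans (by exact_mod_cast (by omega : q₁ ≤ q))
    rwa [div_le_iff₀ (by linarith)] at this
  have h7 : S * ((q : ℚ) ^ n / q) ≤ (P.coeff n - t) * (q : ℚ) ^ n := by
    rw [← mul_div_assoc, div_le_iff₀ (by linarith)]
    nlinarith [mul_le_mul_of_nonneg_right h6 (pow_nonneg (by linarith : (0:ℚ) ≤ q) n)]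
  linarith

/-- In dimension zero `h⁰(L^m)` is the top intersection number. -/
theorem h0_dim_zero (hL : PicF.IsInvertible L) (hn : topologicalKrullDim X ≤ (0 : ℕ)) (m : ℕ) :
    (h0 k (CohB1.tensorPow L m) : ℚ) = altT k (fun _ : Fin 0 => L) (Coh.structureModule X) := by
  haveI := Groth.L21.RR.isNoetherian_of_proper (X := X) k
  have hLm := Groth.L18.Ample.isInvertible_tensorPow hL m
  rw [← altT_tensor_invertible k (fun i : Fin 0 => i.elim0) hLm CohClosedPush.isCoh_structure
    ((Groth.L22.Nakai.dim_support_structure X).trans_le hn), altT_iso k _ (tensorUnitLeft _), altT_zero_eq,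
    euler_eq_sum (k := k) (N := 1) fun n h => subsingleton_HH_of_dim hn _ h, Finset.sum_range_one,
    pow_zero, one_mul, h0_def]
  push_cast
  rfl

include k in
theorem isAmple_dim_zero (hL : PicF.IsInvertible L) (hn : topologicalKrullDim X ≤ (0 : ℕ)) :
    CohB1.IsAmple L := by
  haveI := Groth.L21.RR.isNoetherian_of_proper (X := X) k
  exact Groth.L22.Nakai.isAmple_of_van k hL fun M _ => ⟨0, fun n _ => subsingleton_HH_of_dim hn _ Nat.one_pos⟩

/-- Nef and positive top intersection number: `h⁰(L^m)` grows like `m^n`. -/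
theorem exists_growth {H : X.Modules} (hH : CohB1.IsAmple H) (hnef : IsNef k L) {n : ℕ}
    (hn : topologicalKrullDim X = n) (hpos : 0 < altT k (fun _ : Fin n => L) (Coh.structureModule X)) :
    ∃ C : ℚ, 0 < C ∧ ∃ m₁ : ℕ, ∀ m : ℕ, m₁ ≤ m → C * (m : ℚ) ^ n ≤ (h0 k (CohB1.tensorPow L m) : ℚ) := by
  classical
  haveI := Groth.L21.RR.isNoetherian_of_proper (X := X) k
  rcases n with _ | d
  · exact ⟨_, hpos, 0, fun m _ => by rw [pow_zero, mul_one, h0_dim_zero k hnef.1 hn.le m]⟩
  obtain ⟨e, -, hA, s, hs⟩ := exists_section_pow k hH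
  let A := CohB1.tensorPow H e
  obtain ⟨C, hC⟩ := exists_h0_sub_le k hA hnef.1 s hs hn.le
  let T := altT k (fun _ : Fin (d + 1) => L) (Coh.structureModule X) / (d + 1).factorial
  have hT : 0 < T := div_pos hpos (by positivity)
  obtain ⟨a, ha⟩ := exists_nat_ge ((2 * ((C : ℚ) * 4 ^ d + 1)) / T)
  rw [div_le_iff₀ hT] at ha
  have ha1 : 1 ≤ a := Nat.one_le_iff_ne_zero.2 fun h0 => by
    subst h0
    rw [Nat.cast_zero, zero_mul] at ha
    linarith [show (0 : ℚ) ≤ (C : ℚ) * 4 ^ d by positivity]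
  let G := CohB1.tensorMod (CohB1.tensorPow L a) (CohB1.tensorPow A 1)
  have hG : CohB1.IsAmple G := isAmple_pow_tensor hA hnef a Nat.one_pos
  have hGT : (a : ℚ) ^ (d + 1) * T ≤
      altT k (fun _ : Fin (d + 1) => G) (Coh.structureModule X) / (d + 1).factorial := by
    have hdO := (Groth.L22.Nakai.dim_support_structure X).trans_le hn.le
    have hG' : ∀ i : Fin (d + 1), Nonempty ((fun _ => G) i ≅
        (fun _ : Fin (d + 1) => CohB1.tensorMod (CohB1.tensorPow A 1) (CohB1.tensorPow L a)) i) :=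
      fun _ => ⟨tensorComm _ _⟩
    have h := (pow_mul_le k (N := fun _ : Fin (d + 1) => A) (A := fun _ => L) (fun _ => hA.1)
      (fun _ => hnef.1) CohClosedPush.isCoh_structure hdO 1 a Finset.univ (L := fun _ => L)
      (fun _ => hnef.1) fun U => altT_nonneg hA (fun i => by
        rw [Finset.piecewise_univ]
        exact piecewise_nef (fun _ => IsNef.of_isAmple hA) (fun _ => hnef) U i)
        CohClosedPush.isCoh_structure hdO).2
    rw [Finset.piecewise_univ, Finset.piecewise_univ, Finset.card_fin] at h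
    rw [show T = altT k (fun _ : Fin (d + 1) => L) (Coh.structureModule X) / (d + 1).factorial from rfl,
      ← mul_div_assoc, altT_congr k hG']
    exact div_le_div_of_nonneg_right h (by positivity)
  have hlt : (a : ℚ) ^ (d + 1) * T / 2 <
      altT k (fun _ : Fin (d + 1) => G) (Coh.structureModule X) / (d + 1).factorial := by
    have : 0 < (a : ℚ) ^ (d + 1) * T := mul_pos (pow_pos (by exact_mod_cast ha1) _) hT
    linarith
  choose q₀ hq₀ using fun r : ℕ =>
    exists_le_h0 k hG (Groth.L18.Ample.isInvertible_tensorPow hnef.1 r) hn.le hlt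
  let Q := (Finset.range a).sup q₀ + 1
  refine ⟨1 / (2 * a : ℚ) ^ (d + 1), by positivity, a * Q, fun m hm => ?_⟩
  let q := m / a
  let r := m % a
  have hr : r < a := Nat.mod_lt _ ha1
  have hmq : a * q + r = m := Nat.div_add_mod m a
  have hQq : Q ≤ q := (Nat.le_div_iff_mul_le ha1).2 (by rwa [mul_comm])
  have hq1 : 1 ≤ q := le_trans (Nat.le_add_left 1 _) hQq
  have h1 := hq₀ r q (le_trans (Finset.le_sup (f := q₀) (Finset.mem_range.2 hr))
    (le_trans (Nat.le_succ _) hQq))
  have e : h0 k (CohB1.tensorMod (CohB1.tensorPow L r) (CohB1.tensorPow G q)) =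
      h0 k (CohB1.tensorMod (CohB1.tensorPow L m) (CohB1.tensorPow A q)) := by
    refine h0_iso k (tensorIso (Iso.refl _) (Groth.L00.Tensor.tensorPowTensor _ _ q ≪≫
      tensorIso (Groth.L00.Tensor.tensorPowMul L a q) (Groth.L00.Tensor.tensorPowMul A 1 q ≪≫
        eqToIso (by rw [one_mul]))) ≪≫ (tensorAssoc _ _ _).symm ≪≫
      tensorIso (tensorPowAdd L r (a * q) ≪≫ eqToIso (by rw [add_comm, hmq])) (Iso.refl _))
  have h2 : (h0 k (CohB1.tensorMod (CohB1.tensorPow L m) (CohB1.tensorPow A q)) : ℚ) ≤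
      h0 k (CohB1.tensorPow L m) + q * (C * (4 * a * q) ^ d) := by
    have h4 : m + q + 1 ≤ 4 * a * q := by
      have hr' : r + 1 ≤ a := hr
      have hqa : q ≤ a * q := Nat.le_mul_of_pos_left q ha1
      have haq : a ≤ a * q := Nat.le_mul_of_pos_right a hq1
      rw [mul_assoc]; omega
    exact_mod_cast (hC m q).trans
      (Nat.add_le_add_left (Nat.mul_le_mul_left q (Nat.mul_le_mul_left C (Nat.pow_le_pow_left h4 d))) _)
  rw [e] at h1
  have h5 : (a : ℚ) ^ d * (q : ℚ) ^ (d + 1) * ((C : ℚ) * 4 ^ d + 1) ≤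
      (a : ℚ) ^ (d + 1) * T / 2 * (q : ℚ) ^ (d + 1) := by
    have h6 : 0 ≤ (a : ℚ) ^ d * (q : ℚ) ^ (d + 1) := by positivity
    have h7 : (C : ℚ) * 4 ^ d + 1 ≤ a * T / 2 := by linarith
    calc _ ≤ (a : ℚ) ^ d * (q : ℚ) ^ (d + 1) * (a * T / 2) := mul_le_mul_of_nonneg_left h7 h6
      _ = _ := by ring
  have h8 : (q : ℚ) * (C * (4 * a * q) ^ d) = (a : ℚ) ^ d * (q : ℚ) ^ (d + 1) * ((C : ℚ) * 4 ^ d) := by
    rw [mul_pow, mul_pow]; ring
  have h9 : (m : ℚ) ^ (d + 1) ≤ (2 * a : ℚ) ^ (d + 1) * (q : ℚ) ^ (d + 1) := by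
    rw [← mul_pow]
    refine pow_le_pow_left₀ (Nat.cast_nonneg _) ?_ _
    have haq : a ≤ a * q := Nat.le_mul_of_pos_right a hq1
    have : m ≤ 2 * (a * q) := by omega
    rw [mul_assoc]
    exact_mod_cast this
  have h10 : (1 : ℚ) ≤ (a : ℚ) ^ d := one_le_pow₀ (by exact_mod_cast ha1)
  calc 1 / (2 * a : ℚ) ^ (d + 1) * (m : ℚ) ^ (d + 1) ≤ (q : ℚ) ^ (d + 1) := by
        rw [one_div_mul_eq_div, div_le_iff₀ (by positivity), mul_comm]; exact h9
    _ ≤ (a : ℚ) ^ d * (q : ℚ) ^ (d + 1) := le_mul_of_one_le_left (by positivity) h10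
    _ ≤ (h0 k (CohB1.tensorPow L m) : ℚ) := by linarith

/-- Growth gives an ample submodule of a power. -/
theorem exists_mono_of_growth {H : X.Modules} (hH : CohB1.IsAmple H) (hL : PicF.IsInvertible L) {n : ℕ}
    (hn : topologicalKrullDim X = n)
    (hgrow : 0 < n → ∀ B : ℕ, ∃ m : ℕ, 0 < m ∧ B * (m + 2) ^ (n - 1) < h0 k (CohB1.tensorPow L m)) :
    ∃ (ν : ℕ) (A : X.Modules) (φ : A ⟶ CohB1.tensorPow L ν), 0 < ν ∧ CohB1.IsAmple A ∧ Mono φ := by
  haveI := Groth.L21.RR.isNoetherian_of_proper (X := X) k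
  rcases n with _ | d
  · exact ⟨1, _, 𝟙 _, Nat.one_pos, isAmple_dim_zero k (Groth.L18.Ample.isInvertible_tensorPow hL 1) hn.le,
      inferInstance⟩
  obtain ⟨e, -, hA, s, hs⟩ := exists_section_pow k hH
  let A := CohB1.tensorPow H e
  obtain ⟨A', hA', ⟨ι⟩⟩ := Groth.L08.Cube.exists_inverse hA.1
  obtain ⟨S, hS, h1, h2, hD, hη⟩ := exists_section_seq k hA.1 s hs
  obtain ⟨C, hC⟩ := exists_h0_le k hA (L := ![L, A']) (Fin.forall_fin_two.2 ⟨hL, hA'⟩) hD
    (dim_le_of_generic_notMem (CohSupport.isClosed_support _ hD.2) hη hn.le)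
  obtain ⟨m, hm0, hm⟩ := hgrow d.succ_pos C
  let G := CohB1.tensorMod (CohB1.tensorPow L m) A'
  have hG : PicF.IsInvertible G :=
    Groth.L18.GenLoc.isInvertible_tensor (Groth.L18.Ample.isInvertible_tensorPow hL m) hA'
  have hT := shortExact_tensor hG hS
  have c1 : Coh.IsCoh S.X₁ := h1 ▸ CohClosedPush.isCoh_structure
  have c2 : Coh.IsCoh S.X₂ := h2 ▸ Groth.L18.Ample.isCoh_of_isInvertible hA.1
  have key : h0 k (CohB1.tensorMod S.X₂ G) ≤ h0 k (CohB1.tensorMod S.X₁ G) + h0 k (CohB1.tensorMod S.X₃ G) :=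
    h0_le_add k hT (isCoh_tensor hG c1) (isCoh_tensor hG c2) (isCoh_tensor hG hD)
  let j : CohB1.tensorMod A G ≅ CohB1.tensorPow L m :=
    tensorIso (Iso.refl A) (tensorComm _ _) ≪≫ (tensorAssoc _ _ _).symm ≪≫
      tensorIso ι (Iso.refl _) ≪≫ tensorUnitLeft _
  have e2 : h0 k (CohB1.tensorMod S.X₂ G) = h0 k (CohB1.tensorPow L m) := by rw [h2]; exact h0_iso k j
  have e1 : h0 k (CohB1.tensorMod S.X₁ G) = h0 k G := by rw [h1]; exact h0_iso k (tensorUnitLeft G)
  have e3 : h0 k (CohB1.tensorMod S.X₃ G) ≤ C * (m + 2) ^ d := by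
    obtain ⟨π⟩ := nonempty_two L A' m 1
    rw [← h0_iso k (tensorIso (Iso.refl S.X₃) (π ≪≫ tensorIso (Iso.refl _) (tensorUnitLeft A')))]
    simpa [Fin.sum_univ_two] using hC ![m, 1]
  rw [e1, e2] at key
  rw [Nat.add_sub_cancel] at hm
  obtain ⟨t, ht⟩ := exists_nonzero_of_h0 k (N := G) (by omega)
  haveI : Mono (mulSection A t) :=
    mono_mulSection k hA.1 t (Groth.L22.CurveAmple.genericPoint_mem_genLocus hG ht)
  exact ⟨m, A, mulSection A t ≫ j.hom, hm0, hA, mono_comp _ _⟩

theorem altT_ample_pos (hA : CohB1.IsAmple A) {n : ℕ} (hn : topologicalKrullDim X = n) :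
    0 < altT k (fun _ : Fin n => A) (Coh.structureModule X) := by
  haveI := Groth.L21.RR.isNoetherian_of_proper (X := X) k
  have hd := (Groth.L22.Nakai.dim_support_structure X).trans hn
  obtain ⟨P, hPd, hP⟩ := exists_isHilbPoly (k := k) hA.1 CohClosedPush.isCoh_structure hd.le
  rw [Groth.L22.Nakai.altT_diag k _ hP hPd]
  exact mul_pos (Nat.cast_pos.2 n.factorial_pos)
    (natDegree_eq_and_coeff_pos hA CohClosedPush.isCoh_structure hd hP).2

/-- An ample submodule of a power makes the top intersection number positive. -/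
theorem altT_pos_of_mono (hA : CohB1.IsAmple A) (hnef : IsNef k L) {n : ℕ}
    (hn : topologicalKrullDim X = n) {ν : ℕ} (φ : A ⟶ CohB1.tensorPow L ν) [Mono φ] :
    0 < altT k (fun _ : Fin n => L) (Coh.structureModule X) := by
  classical
  haveI := Groth.L21.RR.isNoetherian_of_proper (X := X) k
  rcases n with _ | d
  · rw [altT_congr k (L' := fun _ : Fin 0 => A) fun i => i.elim0]
    exact altT_ample_pos k hA hn
  let O := Coh.structureModule X
  have hOc : Coh.IsCoh O := CohClosedPush.isCoh_structure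
  have hdO := (Groth.L22.Nakai.dim_support_structure X).trans_le hn.le
  have hN := Groth.L18.Ample.isInvertible_tensorPow hnef.1 ν
  obtain ⟨hQ, hη⟩ := cokernel_facts k hA.1 hN φ
  have hQd := dim_le_of_generic_notMem (CohSupport.isClosed_support _ hQ.2) hη hn.le
  let P : Finset (Fin (d + 1)) → Fin (d + 1) → X.Modules := fun U => U.piecewise (fun _ => L) fun _ => A
  have hPn : ∀ U i, IsNef k (P U i) := fun U i =>
    piecewise_nef (fun _ => hnef) (fun _ => IsNef.of_isAmple hA) U i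
  have step : ∀ U : Finset (Fin (d + 1)),
      altT k (fun _ : Fin (d + 1) => A) O ≤ (ν : ℚ) ^ U.card * altT k (P U) O := by
    intro U
    induction U using Finset.induction_on with
    | empty => simp [P]
    | insert i U hi ih =>
      refine ih.trans ?_
      have hins : P (insert i U) = Function.update (P U) i L := Finset.piecewise_insert _ _ _ _
      have hold : P U = Function.update (P U) i A :=
        (Function.update_eq_self_iff.2 (Finset.piecewise_eq_of_notMem _ _ _ hi).symm).symm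
      have hT : ∀ j : Fin d, IsNef k (P U (Equiv.swap 0 i j.succ)) := fun j => hPn _ _
      let R := fun j : Fin d => P U (Equiv.swap 0 i j.succ)
      have h0 : altT k (Function.update (P U) i (CohB1.tensorPow L ν)) O -
          altT k (Function.update (P U) i A) O = altT k R (cokernel φ) := by
        rw [altT_move, altT_move, altT_cons, altT_cons, altT_iso k _ (tensorUnitLeft A),
          altT_iso k _ (tensorUnitLeft (CohB1.tensorPow L ν))]
        have hker : altT k R (kernel φ) = 0 := by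
          rw [altT, twEuler_of_isZero k (fun j => (hT j).1) (isZero_kernel_of_mono φ), map_zero]
        have hmap := altT_map k (L := R) (fun j => (hT j).1)
          (Groth.L18.Ample.isCoh_of_isInvertible hA.1) (Groth.L18.Ample.isCoh_of_isInvertible hN) φ
        rw [hker] at hmap
        linarith
      have h1 := altT_nonneg hA hT hQ hQd
      have h2 : altT k (Function.update (P U) i (CohB1.tensorPow L ν)) O =
          ν * altT k (Function.update (P U) i L) O := by
        rw [altT_move, altT_move, altT_pow k (fun j => (hT j).1) hnef.1 hOc hdO ν]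
      rw [← h0, h2, ← hold, ← hins, sub_nonneg] at h1
      rw [Finset.card_insert_of_notMem hi, pow_succ, mul_assoc]
      exact mul_le_mul_of_nonneg_left h1 (by positivity)
  have h := (altT_ample_pos k hA hn).trans_le (step Finset.univ)
  simp only [P, Finset.piecewise_univ] at h
  exact pos_of_mul_pos_right h (by positivity)

theorem exists_gt_of_growth {R : Type*} [Field R] [LinearOrder R] [IsStrictOrderedRing R] [Archimedean R]
    {f : ℕ → ℕ} {n : ℕ} {C : R} (hC : 0 < C) {m₁ : ℕ} (hm : ∀ m : ℕ, m₁ ≤ m → C * (m : R) ^ n ≤ (f m : R))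
    (hn : 0 < n) (B : ℕ) : ∃ m : ℕ, 0 < m ∧ B * (m + 2) ^ (n - 1) < f m := by
  obtain ⟨d, rfl⟩ := Nat.exists_eq_succ_of_ne_zero hn.ne'
  obtain ⟨N, hN⟩ := exists_nat_gt ((B : R) * 3 ^ d / C)
  refine ⟨N + m₁ + 1, Nat.succ_pos _, ?_⟩
  have h := hm (N + m₁ + 1) (by omega)
  rw [Nat.succ_sub_one]
  have hpos : (0 : R) < ((N + m₁ + 1 : ℕ) : R) ^ d := pow_pos (Nat.cast_pos.2 (Nat.succ_pos _)) _
  have h1 : (B : R) * 3 ^ d < C * ((N + m₁ + 1 : ℕ) : R) := by
    rw [div_lt_iff₀ hC] at hN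
    refine hN.trans_le ?_
    rw [mul_comm]
    exact mul_le_mul_of_nonneg_left (by exact_mod_cast (by omega : N ≤ N + m₁ + 1)) hC.le
  have h2 : ((B * (N + m₁ + 1 + 2) ^ d : ℕ) : R) < (f (N + m₁ + 1) : R) := by
    refine lt_of_le_of_lt ?_ (lt_of_lt_of_le (mul_lt_mul_of_pos_right h1 hpos) ((le_of_eq ?_).trans h))
    · rw [mul_assoc, ← mul_pow]
      push_cast
      refine mul_le_mul_of_nonneg_left (pow_le_pow_left₀ (by positivity) ?_ _) (Nat.cast_nonneg _)
      have : N + m₁ + 1 + 2 ≤ 3 * (N + m₁ + 1) := by omega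
      exact_mod_cast this
    · rw [pow_succ]; ring
  exact_mod_cast h2

/-- An inverse of an invertible module is invertible. -/
theorem isInvertible_inv {L L' : X.Modules} (hL : PicF.IsInvertible L)
    (e : Nonempty (CohB1.tensorMod L' L ≅ Coh.structureModule X)) : PicF.IsInvertible L' := by
  obtain ⟨N, hN, ⟨i⟩⟩ := Groth.L08.Cube.exists_inverse hL
  exact Groth.L18.Ample.isInvertible_of_iso
    ((tensorUnitRight L').symm ≪≫ tensorIso (Iso.refl L') i.symm ≪≫ (tensorAssoc L' L N).symm ≪≫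
      tensorIso e.some (Iso.refl N) ≪≫ tensorUnitLeft N).symm hN

end Groth.L22.Big
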