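import Groth.Agent.L22.Big.Support
import Groth.Agent.L22.Nef.Bridge
import Groth.Agent.L22.CurveAmple.Section

/-!
Sections and their cokernels; sign changes of intersection numbers.
-/

set_option autoImplicit false
set_option backward.isDefEq.respectTransparency false
set_option linter.style.haveILetI false
set_option linter.unusedSectionVars false
universe u

open CategoryTheory CategoryTheory.Limits AlgebraicGeometry TopologicalSpace

noncomputable section

namespace Groth.L22.Big

open Groth.L22.Inter Groth.L22.Nef Groth.L03.Euler Groth.L16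
open Groth.L00.Tensor (tensorIso tensorAssoc tensorComm tensorUnitRight tensorUnitLeft tensorPowAdd)

variable {X : Scheme.{u}}

theorem bijective_stalk_section {N : X.Modules} (s : Coh.structureModule X ⟶ N) {x : X}
    (hx : x ∈ CohB1.genLocus N s) : Function.Bijective ((Groth.L00.Stk.F X x).map s) := by
  have hb := bijective_toSpanSingleton_germ (Groth.L18.GenLoc.isFrame_genLocus s) hx
  rw [Groth.L20.ModStalk.germ_rs] at hb
  obtain ⟨g, hg, hgs⟩ := stalk_section s x
  refine (Function.Bijective.of_comp_iff _ hg).1 ?_
  have e := congrArg DFunLike.coe hgs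
  rw [LinearMap.coe_comp] at e
  exact (congrArg Function.Bijective e).mpr hb

theorem dim_le_of_generic_notMem [IsIntegral X] {S : Set X} (hS : IsClosed S) (h : genericPoint X ∉ S)
    {n : ℕ} (hn : topologicalKrullDim X ≤ (n + 1 : ℕ)) : topologicalKrullDim S ≤ n := by
  have h1 : topologicalKrullDim S + 1 ≤ ((n + 1 : ℕ) : WithBot ℕ∞) :=
    (topologicalKrullDim_add_one_le hS (IrreducibleSpace.isIrreducible_univ X
      ) (Set.subset_univ S) fun he => h (he ▸ trivial)).trans
      ((IsHomeomorph.topologicalKrullDim_eq _ (Homeomorph.Set.univ X).isHomeomorph).trans_le hn)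
  generalize topologicalKrullDim S = t at h1
  induction t using WithBot.recBotCoe with
  | bot => exact bot_le
  | coe t =>
    change ((t + 1 : ℕ∞) : WithBot ℕ∞) ≤ (((n + 1 : ℕ) : ℕ∞) : WithBot ℕ∞) at h1
    rw [WithBot.coe_le_coe, Nat.cast_add, Nat.cast_one, ENat.add_le_add_iff_right (by simp)] at h1
    exact WithBot.coe_le_coe.2 h1

variable (k : Type u) [Field k] [X.Over (Spec (CommRingCat.of k))] [IsProper (X ↘ Spec (CommRingCat.of k))]

include k in
/-- The cokernel of a monomorphism of invertible modules misses the generic point. -/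
theorem cokernel_facts [IsIntegral X] {M N : X.Modules} (hM : PicF.IsInvertible M) (hN : PicF.IsInvertible N)
    (a : M ⟶ N) [Mono a] : Coh.IsCoh (cokernel a) ∧ genericPoint X ∉ CohB1.support (cokernel a) := by
  haveI := Groth.L21.RR.isNoetherian_of_proper (X := X) k
  have hMc := Groth.L18.Ample.isCoh_of_isInvertible hM
  have hNc := Groth.L18.Ample.isCoh_of_isInvertible hN
  haveI : Coh.IsQCoh N := hNc.1
  refine ⟨(CohKernel.isCoh_kernel_cokernel hMc hNc a).2, (CohSupport.len_eq_zero_iff _ _).1 ?_⟩
  have h := CohSupport.len_add (S := ShortComplex.mk a (cokernel.π a) (cokernel.condition a))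
    { exact := ShortComplex.exact_cokernel a } (genericPoint X)
  change CohSupport.len (genericPoint X) N =
    CohSupport.len (genericPoint X) M + CohSupport.len (genericPoint X) (cokernel a) at h
  rw [Groth.L22.Nakai.len_of_isInvertible hM, Groth.L22.Nakai.len_of_isInvertible hN] at h
  exact (ENat.add_right_injective_of_ne_top (n := 1) (by simp) (h.symm.trans (add_zero 1).symm))

include k in
/-- A nonzero section gives a short exact sequence with small cokernel. -/
theorem exists_section_seq [IsIntegral X] {N : X.Modules} (hN : PicF.IsInvertible N)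
    (s : Coh.structureModule X ⟶ N) (hs : s ≠ 0) :
    ∃ S : ShortComplex X.Modules, S.ShortExact ∧ S.X₁ = Coh.structureModule X ∧ S.X₂ = N ∧
      Coh.IsCoh S.X₃ ∧ genericPoint X ∉ CohB1.support S.X₃ := by
  haveI := Groth.L21.RR.isNoetherian_of_proper (X := X) k
  haveI : Mono s := Groth.L22.Nakai.mono_of_injective (Groth.L18.Ample.isInvertible_structureModule X) s
    (bijective_stalk_section s (Groth.L22.CurveAmple.genericPoint_mem_genLocus hN hs)).1
  exact ⟨ShortComplex.mk s (cokernel.π s) (cokernel.condition s), { exact := ShortComplex.exact_cokernel s },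
    rfl, rfl, cokernel_facts k (Groth.L18.Ample.isInvertible_structureModule X) hN s⟩

include k in
theorem exists_nonzero_of_h0 {N : X.Modules} (h : 0 < h0 k N) :
    ∃ s : Coh.structureModule X ⟶ N, s ≠ 0 := by
  rw [h0_def] at h
  haveI : Nontrivial (Coh.HH X N 0) := Module.nontrivial_of_finrank_pos (R := k) h
  exact Groth.L21.RR.exists_hom_ne_zero (L := N)

theorem h0_pos_iff {N : X.Modules} (hN : Coh.IsCoh N) :
    0 < h0 k N ↔ Nontrivial (Coh.HH X N 0) := by
  haveI := ProperFinite.finite_HH k hN 0
  rw [h0_def, Module.finrank_pos_iff]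

include k in
theorem exists_section_pow [IsIntegral X] {A : X.Modules} (hA : CohB1.IsAmple A) :
    ∃ e : ℕ, 0 < e ∧ CohB1.IsAmple (CohB1.tensorPow A e) ∧
      ∃ s : Coh.structureModule X ⟶ CohB1.tensorPow A e, s ≠ 0 := by
  haveI := Groth.L21.RR.isNoetherian_of_proper (X := X) k
  obtain ⟨n, s, hs, -⟩ := hA.2.2 (genericPoint X)
  refine ⟨n + 1, n.succ_pos, (Groth.L18.Ample.isAmple_pow_iff hA.1 n.succ_pos).1 hA, s, fun h0 => ?_⟩
  have hb := bijective_stalk_section s hs
  rw [h0, Functor.map_zero] at hb
  have hlen := (CohSupport.len_eq_zero_iff (genericPoint X) (Coh.structureModule X)).not.1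
    (by rw [Groth.L22.Nakai.len_structure']; exact one_ne_zero)
  refine hlen fun hsub => hsub ?_
  exact ⟨fun a b => hb.1 rfl⟩

variable {r : ℕ}

/-- An invertible twist does not change the top intersection number. -/
theorem altT_tensor_invertible {L : Fin r → X.Modules} (hL : ∀ i, PicF.IsInvertible (L i))
    {B : X.Modules} (hB : PicF.IsInvertible B) {F : X.Modules} (hF : Coh.IsCoh F)
    (h : topologicalKrullDim (CohB1.support F) ≤ r) :
    altT k L (CohB1.tensorMod F B) = altT k L F := by
  have h0 : altT k (Fin.cons B L) F = 0 :=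
    altT_eq_zero k (Fin.cases (by simpa using hB) fun i => by simpa using hL i) hF
      ((add_le_add_left h 1).trans (by norm_cast))
  rw [altT_cons] at h0
  linarith

/-- Inverting every slot changes the sign `r` times. -/
theorem altT_inv_all {L L' : Fin r → X.Modules} (hL : ∀ i, PicF.IsInvertible (L i))
    (hL' : ∀ i, PicF.IsInvertible (L' i))
    (hinv : ∀ i, Nonempty (CohB1.tensorMod (L' i) (L i) ≅ Coh.structureModule X))
    {F : X.Modules} (hF : Coh.IsCoh F) (h : topologicalKrullDim (CohB1.support F) ≤ r) :
    altT k L' F = (-1) ^ r * altT k L F := by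
  classical
  suffices ∀ S : Finset (Fin r), altT k (S.piecewise L' L) F = (-1) ^ S.card * altT k L F by
    have := this Finset.univ
    rwa [Finset.piecewise_univ, Finset.card_fin] at this
  intro S
  induction S using Finset.induction_on with
  | empty => simp
  | insert i S hi ih =>
    rw [Finset.piecewise_insert, Finset.card_insert_of_notMem hi, pow_succ, mul_comm ((-1 : ℚ) ^ S.card),
      mul_assoc, ← ih]
    have hP : ∀ j, PicF.IsInvertible (S.piecewise L' L j) := fun j => by
      by_cases hj : j ∈ S
      · rw [Finset.piecewise_eq_of_mem _ _ _ hj]; exact hL' j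
      · rw [Finset.piecewise_eq_of_notMem _ _ _ hj]; exact hL j
    have h1 : altT k (Function.update (S.piecewise L' L) i (CohB1.tensorMod (L' i) (L i))) F = 0 := by
      rw [altT_update_congr (k := k) (hinv i).some, altT_update_unit]
    rw [altT_update_tensor hP i (hL' i) (hL i) hF h] at h1
    have h2 : Function.update (S.piecewise L' L) i (L i) = S.piecewise L' L :=
      Function.update_eq_self_iff.2 (Finset.piecewise_eq_of_notMem _ _ _ hi).symm
    rw [h2] at h1
    linarith

/-- The intersection number in the inverses is the mixed difference in the modules. -/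
theorem intNum_inv_eq [IsIntegral X] {n : ℕ} (hn : topologicalKrullDim X ≤ n) {L L' : Fin n → X.Modules}
    (hL : ∀ i, PicF.IsInvertible (L i)) (hL' : ∀ i, PicF.IsInvertible (L' i))
    (hinv : ∀ i, Nonempty (CohB1.tensorMod (L' i) (L i) ≅ Coh.structureModule X)) :
    (FGA.intNum k X n L' (Coh.structureModule X) : ℚ) = altT k L (Coh.structureModule X) := by
  haveI := Groth.L21.RR.isNoetherian_of_proper (X := X) k
  rw [intNum_eq k hn, altT_inv_all k hL hL' hinv CohClosedPush.isCoh_structure
    ((Groth.L22.Nakai.dim_support_structure X).le.trans hn), ← mul_assoc, ← mul_pow,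
    neg_one_mul, neg_neg, one_pow, one_mul]

end Groth.L22.Big
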