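import Groth.Agent.L22.Big.Growth

/-!
Cohomology of coherent modules with small support.
-/

set_option autoImplicit false
set_option backward.isDefEq.respectTransparency false
set_option linter.style.haveILetI false
set_option linter.unusedSectionVars false
universe u

open CategoryTheory CategoryTheory.Limits AlgebraicGeometry TopologicalSpace

noncomputable section

namespace Groth.L22.Big

open Groth.L22.Inter Groth.L03.Euler Groth.L16
open Groth.L00.Tensor (tensorIso tensorAssoc tensorComm tensorUnitRight tensorUnitLeft tensorPowAdd)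

variable (k : Type u) [Field k] {X : Scheme.{u}} [X.Over (Spec (CommRingCat.of k))]
  [IsProper (X ↘ Spec (CommRingCat.of k))]

include k in
/-- A coherent module comes from a closed subscheme on its support. -/
theorem exists_push_support {F : X.Modules} (hF : Coh.IsCoh F) :
    ∃ (Z : Scheme.{u}) (i : Z ⟶ X) (M : Z.Modules), IsClosedImmersion i ∧ Coh.IsCoh M ∧
      Nonempty ((Coh.push i).obj M ≅ F) ∧
      topologicalKrullDim Z = topologicalKrullDim (CohB1.support F) := by
  haveI := Groth.L21.RR.isNoetherian_of_proper (X := X) k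
  haveI := hF.1
  let J := SchSupport.annIdeal hF
  haveI := SchSupport.isIso_unit_annIdeal hF
  refine ⟨J.subscheme, J.subschemeι, (Scheme.Modules.pullback J.subschemeι).obj F, inferInstance,
    Groth.L17.KilledUnit.isCoh_pullback_of_killed J.subschemeι F hF (SchSupport.killed_ker hF),
    ⟨(asIso ((Scheme.Modules.pullbackPushforwardAdjunction J.subschemeι).unit.app F)).symm⟩, ?_⟩
  rw [← Groth.L22.Nakai.dim_subscheme J, SchSupport.coe_support_annIdeal hF]

include k in
/-- Cohomology vanishes above the dimension of the support. -/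
theorem subsingleton_HH_of_support {F : X.Modules} (hF : Coh.IsCoh F) {d : ℕ}
    (hd : topologicalKrullDim (CohB1.support F) ≤ d) {n : ℕ} (hn : d < n) :
    Subsingleton (Coh.HH X F n) := by
  obtain ⟨Z, i, M, hi, hM, ⟨e⟩, hdim⟩ := exists_push_support k hF
  haveI := hi
  letI : Z.Over (Spec (CommRingCat.of k)) := ⟨i ≫ X ↘ Spec (CommRingCat.of k)⟩
  haveI : IsProper (Z ↘ Spec (CommRingCat.of k)) :=
    inferInstanceAs (IsProper (i ≫ X ↘ Spec (CommRingCat.of k)))
  haveI := Groth.L21.RR.isNoetherian_of_proper (X := X) k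
  haveI := Groth.L21.RR.isNoetherian_of_proper (X := Z) k
  haveI : X.IsSeparated := ⟨by rw [← terminal.comp_from (X ↘ Spec (CommRingCat.of k))]; infer_instance⟩
  haveI := subsingleton_HH_of_dim (hdim.trans_le hd) M hn
  haveI : Subsingleton (Coh.HH X ((Coh.push i).obj M) n) := by
    obtain ⟨φ⟩ := exists_HH_push_linearEquiv (k := k) i M hM.1 (rfl : _ = Z ↘ Spec (CommRingCat.of k)) n
    exact φ.toEquiv.symm.subsingleton
  exact ProjSpace.subsingleton_of_iso e.symm n this

/-- `h⁰(F ⊗ L^n) = O((Σ n + 1)^d)` for a module supported in dimension `d`. -/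
theorem exists_h0_le {A : X.Modules} (hA : CohB1.IsAmple A) {r : ℕ} {L : Fin r → X.Modules}
    (hL : ∀ i, PicF.IsInvertible (L i)) {F : X.Modules} (hF : Coh.IsCoh F) {d : ℕ}
    (hd : topologicalKrullDim (CohB1.support F) ≤ d) :
    ∃ C : ℕ, ∀ n : Fin r → ℕ,
      h0 k (CohB1.tensorMod F (Curv2.tensorPows (Coh.structureModule X) r L n)) ≤ C * (∑ i, n i + 1) ^ d := by
  haveI := Groth.L21.RR.isNoetherian_of_proper (X := X) k
  haveI : X.IsSeparated := ⟨by rw [← terminal.comp_from (X ↘ Spec (CommRingCat.of k))]; infer_instance⟩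
  obtain ⟨Z, i, M, hi, hM, ⟨e⟩, hdim⟩ := exists_push_support k hF
  haveI := hi
  letI : Z.Over (Spec (CommRingCat.of k)) := ⟨i ≫ X ↘ Spec (CommRingCat.of k)⟩
  haveI : IsProper (Z ↘ Spec (CommRingCat.of k)) :=
    inferInstanceAs (IsProper (i ≫ X ↘ Spec (CommRingCat.of k)))
  haveI := Groth.L21.RR.isNoetherian_of_proper (X := Z) k
  have hdZ : topologicalKrullDim Z ≤ d := hdim.trans_le hd
  let LZ := fun j => (Scheme.Modules.pullback i).obj (L j)
  have hLZ : ∀ j, PicF.IsInvertible (LZ j) := fun j => Groth.L18.Ample.isInvertible_pullback i (hL j)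
  suffices ∀ M : Z.Modules, Coh.IsCoh M → ∃ C : ℕ, ∀ n : Fin r → ℕ,
      h0 k (CohB1.tensorMod M (Curv2.tensorPows (Coh.structureModule Z) r LZ n)) ≤ C * (∑ j, n j + 1) ^ d by
    obtain ⟨C, hC⟩ := this M hM
    refine ⟨C, fun n => ?_⟩
    obtain ⟨π⟩ := nonempty_pullback_tensorPows i L n
    rw [← h0_iso k (tensorIso e (Iso.refl _)), h0_def,
      finrank_push k i rfl (isInvertible_tensorPows hL n) M hM.1, ← h0_def,
      h0_iso k (tensorIso (Iso.refl M) π)]
    exact hC n
  intro M hM
  refine Devissage.devissage_ideals (P := fun M => ∃ C : ℕ, ∀ n : Fin r → ℕ,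
    h0 k (CohB1.tensorMod M (Curv2.tensorPows (Coh.structureModule Z) r LZ n)) ≤ C * (∑ j, n j + 1) ^ d)
    (fun M N e ⟨C, hC⟩ => ⟨C, fun n => (h0_iso k (tensorIso e.some.symm (Iso.refl _))).trans_le (hC n)⟩)
    (fun M h => ⟨0, fun n => ?_⟩) (fun S hS h₁ h₂ h₃ ⟨C₁, hC₁⟩ ⟨C₃, hC₃⟩ => ⟨C₁ + C₃, fun n => ?_⟩)
    (fun W j hj hW I ι hι hI => ?_) hM
  · haveI : Subsingleton (Coh.HH Z (CohB1.tensorMod M (Curv2.tensorPows (Coh.structureModule Z) r LZ n)) 0) :=
      Groth.L03.Euler.subsingleton_HH_of_isZero ((Groth.L00.Tensor.tensorRightF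
      (Curv2.tensorPows (Coh.structureModule Z) r LZ n)).map_isZero h) 0
    rw [h0_def]
    exact (Module.finrank_zero_of_subsingleton (R := k)).le.trans (Nat.zero_le _)
  · have hP := isInvertible_tensorPows hLZ n
    have hT := shortExact_tensor hP hS
    rw [Nat.add_mul]
    exact (h0_le_add k hT (isCoh_tensor hP h₁) (isCoh_tensor hP h₂) (isCoh_tensor hP h₃)).trans
      (Nat.add_le_add (hC₁ n) (hC₃ n))
  haveI := hj; haveI := hW; haveI := hι; haveI := hI
  letI : W.Over (Spec (CommRingCat.of k)) := ⟨j ≫ Z ↘ Spec (CommRingCat.of k)⟩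
  haveI : IsProper (W ↘ Spec (CommRingCat.of k)) :=
    inferInstanceAs (IsProper (j ≫ Z ↘ Spec (CommRingCat.of k)))
  haveI := Groth.L21.RR.isNoetherian_of_proper (X := W) k
  haveI : Z.IsSeparated := ⟨by rw [← terminal.comp_from (Z ↘ Spec (CommRingCat.of k))]; infer_instance⟩
  let LW := fun l => (Scheme.Modules.pullback j).obj (LZ l)
  have hLW : ∀ l, PicF.IsInvertible (LW l) := fun l => Groth.L18.Ample.isInvertible_pullback j (hLZ l)
  have hAW : CohB1.IsAmple ((Scheme.Modules.pullback j).obj ((Scheme.Modules.pullback i).obj A)) :=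
    Groth.L18.Ample.isAmple_pullback_of_isAffineHom _ (Groth.L18.Ample.isAmple_pullback_of_isAffineHom _ hA)
  have hdW : topologicalKrullDim W ≤ d :=
    (j.isClosedEmbedding.topologicalKrullDim_le).trans hdZ
  obtain ⟨C, hC⟩ := exists_h0_le_integral k hAW hdW hLW
  refine ⟨C, fun n => ?_⟩
  have hP := isInvertible_tensorPows hLW n
  have hPc := Groth.L18.Ample.isCoh_of_isInvertible hP
  obtain ⟨π⟩ := nonempty_pullback_tensorPows j LZ n
  rw [h0_def, finrank_push k j rfl (isInvertible_tensorPows hLZ n) I hI, ← h0_def,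
    h0_iso k (tensorIso (Iso.refl I) π)]
  haveI : Mono ((Groth.L00.Tensor.tensorRightF (Curv2.tensorPows (Coh.structureModule W) r LW n)).map ι) :=
    (shortExact_tensor hP (S := ShortComplex.mk ι (cokernel.π ι) (cokernel.condition ι))
      { exact := ShortComplex.exact_cokernel ι }).mono_f
  refine le_trans (h0_le_of_mono k
    ((Groth.L00.Tensor.tensorRightF (Curv2.tensorPows (Coh.structureModule W) r LW n)).map ι ≫
      (tensorUnitLeft (Curv2.tensorPows (Coh.structureModule W) r LW n)).hom) hPc) (hC n)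

end Groth.L22.Big
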