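import Groth.Agent.L22.Big.Surface
import Groth.Agent.L16.ProjSpace.AmpleIff
import Groth.Agent.L16.ProjSpace.Dim

/-!
Surface statements in terms of `FGA.intNum`.
-/

set_option autoImplicit false
set_option backward.isDefEq.respectTransparency false
set_option linter.style.haveILetI false
set_option linter.unusedSectionVars false
universe u

open CategoryTheory CategoryTheory.Limits AlgebraicGeometry TopologicalSpace

noncomputable section

namespace Groth.L22.Big

open Groth.L22.Inter Groth.L22.Nef Groth.L03.Euler Groth.L16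

variable (k : Type u) [Field k] {X : Scheme.{u}} [X.Over (Spec (CommRingCat.of k))]
  [IsProper (X ↘ Spec (CommRingCat.of k))] [IsIntegral X]

include k in
theorem nontrivial_of_section {N : X.Modules} (hN : PicF.IsInvertible N)
    {φ : Coh.structureModule X ⟶ N} (hφ : φ ≠ 0) : Nontrivial (Coh.HH X N 0) := by
  refine ⟨⟨(Groth.L21.RR.e0 N).symm (Groth.L18.GenLoc.secOf φ), 0, fun h => ?_⟩⟩
  have h1 : Groth.L18.GenLoc.secOf φ = 0 := by
    have := congrArg (Groth.L21.RR.e0 N) h
    rwa [AddEquiv.apply_symm_apply, map_zero] at this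
  refine Groth.L21.RR.st_one_ne_zero hN hφ (genericPoint X) ?_
  rw [Groth.L21.RR.st_one φ _ (W := ⊤) trivial]
  show N.presheaf.germ ⊤ _ trivial (Groth.L18.Frame.rs N le_top (Groth.L18.GenLoc.secOf φ)) = 0
  rw [h1, Groth.L18.Frame.rs_self]
  exact map_zero _

theorem isEff_of_nontrivial {N : X.Modules} {e : ℕ} (he : 0 < e)
    (h : Nontrivial (Coh.HH X (CohB1.tensorPow N e) 0)) : IsEff N :=
  ⟨e, he, (haveI := h; Groth.L21.RR.exists_hom_ne_zero (L := CohB1.tensorPow N e))⟩

variable (hdim : topologicalKrullDim X ≤ (2 : ℕ))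
include hdim

theorem orth_sq_le {L M H : X.Modules} (hL : PicF.IsInvertible L) (hM : PicF.IsInvertible M)
    (hH : CohB1.IsAmple H) (hHH : 0 < ii k H H) :
    ii k L L * ii k H H ≤ ii k L H ^ 2 ∧
      (0 < ii k L L → ii k L M = 0 → ii k M M ≤ 0) := by
  haveI := Groth.L21.RR.isNoetherian_of_proper (X := X) k
  have hint : ∀ A B : X.Modules, ∃ z : ℤ, ii k A B = (z : ℚ) :=
    fun A B => ⟨_, (intNum_eq_ii k hdim A B).symm⟩
  have comb : ∀ (P Q : X.Modules), PicF.IsInvertible P → PicF.IsInvertible Q → ∀ (a b : ℤ),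
      (a : ℚ) * ii k P H + b * ii k Q H = 0 →
      (a : ℚ) ^ 2 * ii k P P + 2 * a * b * ii k P Q + b ^ 2 * ii k Q Q ≤ 0 := by
    intro P Q hP hQ a b h
    have zp : ∀ (P : X.Modules), PicF.IsInvertible P → ∀ a : ℤ, ∃ Z : X.Modules, PicF.IsInvertible Z ∧
        ∀ C : X.Modules, PicF.IsInvertible C → ii k Z C = a * ii k P C := by
      intro P hP a
      obtain ⟨P', hP', ⟨ι⟩⟩ := Groth.L08.Cube.exists_inverse hP
      rcases a.eq_nat_or_neg with ⟨n, rfl | rfl⟩
      · exact ⟨_, Groth.L18.Ample.isInvertible_tensorPow hP n, fun C hC => by rw [ii_pow k hdim hP hC]; push_cast; rfl⟩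
      · refine ⟨_, Groth.L18.Ample.isInvertible_tensorPow hP' n, fun C hC => ?_⟩
        have h0 : ii k (CohB1.tensorMod P P') C = 0 := (ii_congr k ι C).trans (altT_unit k _)
        rw [ii_tensor k hdim hP hP' hC] at h0
        rw [ii_pow k hdim hP' hC, show ii k P' C = - ii k P C by linarith]
        push_cast
        ring
    obtain ⟨Z, hZ, hZi⟩ := zp P hP a
    obtain ⟨W, hW, hWi⟩ := zp Q hQ b
    have hN := Groth.L18.GenLoc.isInvertible_tensor hZ hW
    have horth : ii k (CohB1.tensorMod Z W) H = 0 := by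
      rw [ii_tensor k hdim hZ hW hH.1, hZi H hH.1, hWi H hH.1]; exact h
    have h2 := ii_nonpos_of_orth k hdim hN hH horth
    rw [ii_tensor k hdim hZ hW hN, hZi _ hN, hWi _ hN, ii_tensor_right k hdim hP hZ hW,
      ii_tensor_right k hdim hQ hZ hW, ii_comm k P Z, ii_comm k P W, ii_comm k Q Z, ii_comm k Q W,
      hZi _ hP, hZi _ hQ, hWi _ hP, hWi _ hQ, ii_comm k Q P] at h2
    linarith
  obtain ⟨lh, hlh⟩ := hint L H
  obtain ⟨hh, hhh⟩ := hint H H
  obtain ⟨mh, hmh⟩ := hint M H
  have part1 : ii k L L * ii k H H ≤ ii k L H ^ 2 := by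
    have h := comb L H hL hH.1 hh (-lh) (by push_cast; rw [← hlh, ← hhh]; ring)
    push_cast at h
    rw [← hlh, ← hhh] at h
    nlinarith
  refine ⟨part1, fun hLL hLM => ?_⟩
  by_contra hMM
  rw [not_le] at hMM
  have hLH : ii k L H ≠ 0 := fun h0 => by
    rw [h0] at part1
    nlinarith
  have h := comb L M hL hM mh (-lh) (by push_cast; rw [← hlh, ← hmh]; ring)
  push_cast at h
  rw [← hlh, ← hmh, hLM] at h
  nlinarith [mul_pos (pow_two_pos_of_ne_zero hLH) hMM, mul_nonneg (sq_nonneg (ii k M H)) hLL.le]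

theorem ii_ample_pos (hd2 : topologicalKrullDim X = (2 : ℕ)) {H : X.Modules} (hH : CohB1.IsAmple H) :
    0 < ii k H H := by
  have h := altT_ample_pos k hH hd2
  rwa [show (fun _ : Fin 2 => H) = ![H, H] from funext fun i => by fin_cases i <;> rfl, ii_vec] at h

omit hdim in
/-- A projective surface: proper, with ample hyperplane module. -/
theorem proj_facts {Y : Scheme.{u}} [Y.Over (Spec (CommRingCat.of k))] (hdim : topologicalKrullDim Y = 2)
    {n : ℕ} (ι : Y ⟶ CohB1.ProjSpace n k) [IsClosedImmersion ι]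
    (hι : ι ≫ CohB1.ProjSpace.toSpec n k = Y ↘ Spec (CommRingCat.of k)) :
    IsProper (Y ↘ Spec (CommRingCat.of k)) ∧
      CohB1.IsAmple ((Scheme.Modules.pullback ι).obj (Twist.twistProjSpace n k 1)) := by
  haveI : IsProper (CohB1.ProjSpace.toSpec n k) := Groth.L16.ProjSpace.isProper_toSpec n k
  refine ⟨hι ▸ inferInstance, Groth.L18.Ample.isAmple_pullback_of_isAffineHom ι
    ((Groth.L16.ProjSpace.isAmple_twistProjSpace_iff n k ?_ 1).2 one_pos)⟩
  have h := ι.isClosedEmbedding.topologicalKrullDim_le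
  rw [hdim, Groth.L16.ProjSpace.topologicalKrullDim_eq_of_field n k] at h
  have : (2 : ℕ) ≤ n := by exact_mod_cast h
  omega

end Groth.L22.Big
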