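import Groth.Agent.L22.Nef.NumTriv
import Groth.Agent.L22.CurveDeg.Devissage

/-!
Upper bounds for sections of twists on schemes with an ample module.
-/

set_option autoImplicit false
set_option backward.isDefEq.respectTransparency false
set_option linter.style.haveILetI false
set_option linter.unusedSectionVars false
universe u

open CategoryTheory CategoryTheory.Limits AlgebraicGeometry TopologicalSpace

noncomputable section

namespace Groth.L22.Big

open Groth.L22.Inter Groth.L03.Euler Groth.L16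
open Groth.L00.Tensor (tensorIso tensorAssoc tensorComm tensorUnitRight tensorUnitLeft tensorPowAdd)

variable (k : Type u) [Field k] {X : Scheme.{u}} [X.Over (Spec (CommRingCat.of k))]

/-- The dimension of the space of sections. -/
def h0 (M : X.Modules) : ℕ := Module.finrank k (Coh.HH X M 0)

theorem h0_def (M : X.Modules) : h0 k M = Module.finrank k (Coh.HH X M 0) := rfl

attribute [irreducible] h0

theorem h0_iso {M N : X.Modules} (e : M ≅ N) : h0 k M = h0 k N := by
  rw [h0_def, h0_def]; exact finrank_HH_of_iso e 0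

theorem finrank_push {Z : Scheme.{u}} [Z.Over (Spec (CommRingCat.of k))] (f : Z ⟶ X) [IsAffineHom f]
    [X.IsSeparated] (hf : f ≫ (X ↘ Spec (CommRingCat.of k)) = Z ↘ Spec (CommRingCat.of k))
    {E : X.Modules} (hE : PicF.IsInvertible E) (M : Z.Modules) (hM : Coh.IsQCoh M) (p : ℕ) :
    Module.finrank k (Coh.HH X (CohB1.tensorMod ((Coh.push f).obj M) E) p) =
      Module.finrank k (Coh.HH Z (CohB1.tensorMod M ((Scheme.Modules.pullback f).obj E)) p) := by
  have hE' := Groth.L16.Existence.isFinLocFree_of_isInvertible hE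
  haveI := Groth.L17.ProjFormula.isIso_θ f E M hE'
  haveI : Coh.IsQCoh ((Scheme.Modules.pullback f).obj E) :=
    Groth.L29.DC.PCQCoh.isQCoh_of_isFinLocFree (Groth.L29.LocFree.pullback f hE')
  haveI := hM
  rw [finrank_HH_of_iso (tensorComm ((Coh.push f).obj M) E ≪≫ asIso (Groth.L17.ClosedPush.θ f M E)) p,
    finrank_HH_of_iso (tensorComm M ((Scheme.Modules.pullback f).obj E)) p]
  obtain ⟨e⟩ := exists_HH_push_linearEquiv f _ (Groth.L00.Tensor.isQCoh_tensorMod
    ((Scheme.Modules.pullback f).obj E) M) hf p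
  exact e.finrank_eq.symm

variable [IsProper (X ↘ Spec (CommRingCat.of k))]

theorem h0_le_of_mono {M N : X.Modules} (a : M ⟶ N) [Mono a] (hN : Coh.IsCoh N) :
    h0 k M ≤ h0 k N := by
  rw [h0_def, h0_def]
  haveI := ProperFinite.finite_HH k hN 0
  exact LinearMap.finrank_le_finrank_of_injective (f := CohLinear.overLin k (CohLinear.hmap a 0))
    (Groth.L21.RR.injective_hmap_zero a)

theorem h0_le_of_shortExact {S : ShortComplex X.Modules} (hS : S.ShortExact)
    (h₂ : Coh.IsCoh S.X₂) : h0 k S.X₁ ≤ h0 k S.X₂ :=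
  haveI := hS.mono_f
  h0_le_of_mono k S.f h₂

theorem h0_le_add {S : ShortComplex X.Modules} (hS : S.ShortExact)
    (h₁ : Coh.IsCoh S.X₁) (h₂ : Coh.IsCoh S.X₂) (h₃ : Coh.IsCoh S.X₃) :
    h0 k S.X₂ ≤ h0 k S.X₁ + h0 k S.X₃ := by
  haveI := ProperFinite.finite_HH k h₁ 0
  haveI := ProperFinite.finite_HH k h₂ 0
  haveI := ProperFinite.finite_HH k h₃ 0
  rw [h0_def, h0_def, h0_def, finrank_eq_add (CohLinear.overLin k (CohLinear.hmap S.f 0))
    (CohLinear.overLin k (CohLinear.hmap S.g 0)) (CohLinear.exact_hmap_hmap hS 0)]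
  exact Nat.add_le_add (LinearMap.finrank_range_le _) (Submodule.finrank_le _)

include k in
/-- Multiplication by a nonzero section is injective on an integral scheme. -/
theorem mono_mulSection [IsIntegral X] {G N : X.Modules} (hG : PicF.IsInvertible G)
    (s : Coh.structureModule X ⟶ N) (hs : genericPoint X ∈ CohB1.genLocus N s) :
    Mono (mulSection G s) := by
  haveI := Groth.L21.RR.isNoetherian_of_proper (X := X) k
  exact Groth.L22.Nakai.mono_of_injective hG (mulSection G s) (bijective_mulSection G s hs).1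

variable [IsIntegral X] {A : X.Modules}

theorem h0_comm (B T E : X.Modules) :
    h0 k (CohB1.tensorMod B (CohB1.tensorMod T E)) = h0 k (CohB1.tensorMod (CohB1.tensorMod B E) T) :=
  h0_iso k (tensorIso (Iso.refl B) (tensorComm T E) ≪≫ (tensorAssoc B E T).symm)

theorem h0_swap (B T E : X.Modules) :
    h0 k (CohB1.tensorMod (CohB1.tensorMod B E) T) = h0 k (CohB1.tensorMod (CohB1.tensorMod B T) E) :=
  h0_iso k (tensorAssoc B E T ≪≫ tensorIso (Iso.refl B) (tensorComm E T) ≪≫ (tensorAssoc B T E).symm)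

theorem h0_cancel (B P Q L L' R : X.Modules) (ι : CohB1.tensorMod L L' ≅ Coh.structureModule X)
    (j : CohB1.tensorMod P Q ≅ R) :
    h0 k (CohB1.tensorMod (CohB1.tensorMod (CohB1.tensorMod B P) L) (CohB1.tensorMod L' Q)) =
      h0 k (CohB1.tensorMod B R) :=
  h0_iso k (tensorAssoc (CohB1.tensorMod B P) L (CohB1.tensorMod L' Q) ≪≫
    tensorIso (Iso.refl (CohB1.tensorMod B P)) ((tensorAssoc L L' Q).symm ≪≫
      tensorIso ι (Iso.refl Q) ≪≫ tensorUnitLeft Q) ≪≫
    tensorAssoc B P Q ≪≫ tensorIso (Iso.refl B) j)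

/-- One slot: `h⁰(B ⊗ L^n) ≤ h⁰(B ⊗ A^{en})`. -/
theorem exists_slot (hA : CohB1.IsAmple A) {L : X.Modules} (hL : PicF.IsInvertible L) :
    ∃ e : ℕ, ∀ B : X.Modules, PicF.IsInvertible B → ∀ n : ℕ,
      h0 k (CohB1.tensorMod B (CohB1.tensorPow L n)) ≤ h0 k (CohB1.tensorMod B (CohB1.tensorPow A (e * n))) := by
  haveI := Groth.L21.RR.isNoetherian_of_proper (X := X) k
  obtain ⟨L', hL', ⟨ι⟩⟩ := Groth.L08.Cube.exists_inverse hL
  obtain ⟨e, he⟩ := Groth.L18.Ample.exists_forall_isGloballyGenerated hA L' (Groth.L18.Ample.isCoh_of_isInvertible hL')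
  have hM : PicF.IsInvertible (CohB1.tensorMod L' (CohB1.tensorPow A e)) :=
    Groth.L18.GenLoc.isInvertible_tensor hL' (Groth.L18.Ample.isInvertible_tensorPow hA.1 e)
  obtain ⟨t, ht⟩ := Groth.L18.Ample.exists_genLocus_mem_of_gg hM (he e le_rfl) (genericPoint X)
  refine ⟨e, fun B hB n => ?_⟩
  induction n generalizing B with
  | zero => exact le_rfl
  | succ n ih =>
    have hBL := Groth.L18.GenLoc.isInvertible_tensor hB hL
    have hBA := Groth.L18.GenLoc.isInvertible_tensor hB (Groth.L18.Ample.isInvertible_tensorPow hA.1 (e * n))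
    let K := CohB1.tensorMod (CohB1.tensorMod B (CohB1.tensorPow A (e * n))) L
    have hK : PicF.IsInvertible K := Groth.L18.GenLoc.isInvertible_tensor hBA hL
    haveI := mono_mulSection k hK t ht
    have hKc := Groth.L18.Ample.isCoh_of_isInvertible (Groth.L18.GenLoc.isInvertible_tensor hK hM)
    have h1 : h0 k (CohB1.tensorMod B (CohB1.tensorPow L (n + 1))) =
        h0 k (CohB1.tensorMod (CohB1.tensorMod B L) (CohB1.tensorPow L n)) :=
      h0_comm k B (CohB1.tensorPow L n) L
    have h2 : h0 k (CohB1.tensorMod (CohB1.tensorMod B L) (CohB1.tensorPow A (e * n))) = h0 k K :=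
      h0_swap k B (CohB1.tensorPow A (e * n)) L
    have h3 : h0 k (CohB1.tensorMod K (CohB1.tensorMod L' (CohB1.tensorPow A e))) =
        h0 k (CohB1.tensorMod B (CohB1.tensorPow A (e * n + e))) :=
      h0_cancel k B (CohB1.tensorPow A (e * n)) (CohB1.tensorPow A e) L L' _ ι (tensorPowAdd A (e * n) e)
    rw [h1, Nat.mul_succ, ← h3]
    exact ((ih _ hBL).trans_eq h2).trans (h0_le_of_mono k (mulSection K t) hKc)

/-- `h⁰(A^z) = O(z^d)`. -/
theorem exists_h0_ample_le (hA : CohB1.IsAmple A) {d : ℕ} (hd : topologicalKrullDim X ≤ d) :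
    ∃ C : ℕ, ∀ z : ℕ, h0 k (CohB1.tensorPow A z) ≤ C * (z + 1) ^ d := by
  classical
  haveI := Groth.L21.RR.isNoetherian_of_proper (X := X) k
  have hO := CohClosedPush.isCoh_structure (X := X)
  obtain ⟨P, hPd, hP⟩ := exists_isHilbPoly (k := k) hA.1 hO (d := d)
    (by rw [Groth.L22.Nakai.dim_support_structure]; exact hd)
  obtain ⟨z₀, hz₀⟩ := Groth.L16.Rees.RelVanish.exists_vanishing (X ↘ Spec (CommRingCat.of k)) hA hO
  let S := ∑ i ∈ Finset.range (d + 1), |P.coeff i|
  obtain ⟨c, hc⟩ := exists_nat_ge S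
  refine ⟨c + ∑ z ∈ Finset.range z₀, h0 k (CohB1.tensorPow A z), fun z => ?_⟩
  by_cases hz : z < z₀
  · have h1 : h0 k (CohB1.tensorPow A z) ≤ ∑ z ∈ Finset.range z₀, h0 k (CohB1.tensorPow A z) :=
      Finset.single_le_sum (f := fun z => h0 k (CohB1.tensorPow A z)) (fun _ _ => Nat.zero_le _)
        (Finset.mem_range.2 hz)
    exact (h1.trans (Nat.le_add_left _ c)).trans (Nat.le_mul_of_pos_right _ (pow_pos (Nat.succ_pos z) d))
  · have heq : (h0 k (CohB1.tensorPow A z) : ℚ) = P.eval (z : ℚ) := by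
      rw [← hP z, show Curv2.euler k X (ShStab.twist X A (Coh.structureModule X) z) =
        Curv2.euler k X (CohB1.tensorMod (Coh.structureModule X) (CohB1.tensorPow A z)) from rfl, euler_eq_sum (k := k) (N := 1) fun n hn => hz₀ z (not_lt.1 hz) n hn, Finset.sum_range_one,
        pow_zero, one_mul]
      push_cast
      exact congrArg Nat.cast ((h0_iso k (tensorUnitLeft (CohB1.tensorPow A z)).symm).trans (h0_def k _))
    have h1 : P.eval (z : ℚ) ≤ S * ((z : ℚ) + 1) ^ d := by
      rw [Polynomial.eval_eq_sum_range' (Nat.lt_succ_of_le hPd), Finset.sum_mul]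
      refine Finset.sum_le_sum fun i hi => ?_
      calc P.coeff i * (z : ℚ) ^ i ≤ |P.coeff i| * (z : ℚ) ^ i :=
            mul_le_mul_of_nonneg_right (le_abs_self _) (by positivity)
        _ ≤ |P.coeff i| * ((z : ℚ) + 1) ^ d := by
            refine mul_le_mul_of_nonneg_left ?_ (abs_nonneg _)
            exact (pow_le_pow_left₀ (Nat.cast_nonneg z) (by linarith) i).trans
              (pow_le_pow_right₀ (by linarith [Nat.cast_nonneg (α := ℚ) z]) (Nat.le_of_lt_succ (Finset.mem_range.1 hi)))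
    have h2 : (h0 k (CohB1.tensorPow A z) : ℚ) ≤ ((c * (z + 1) ^ d : ℕ) : ℚ) := by
      rw [heq]; push_cast
      exact h1.trans (mul_le_mul_of_nonneg_right hc (by positivity))
    exact (Nat.cast_le.1 h2).trans (Nat.mul_le_mul_right _ (Nat.le_add_right _ _))

/-- Several slots on an integral scheme. -/
theorem exists_h0_slots (hA : CohB1.IsAmple A) : ∀ {r : ℕ} (L : Fin r → X.Modules),
    (∀ i, PicF.IsInvertible (L i)) → ∃ e : ℕ, ∀ B : X.Modules, PicF.IsInvertible B → ∀ n : Fin r → ℕ,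
      ∃ w : ℕ, w ≤ e * ∑ i, n i ∧
        h0 k (CohB1.tensorMod B (Curv2.tensorPows (Coh.structureModule X) r L n)) ≤
          h0 k (CohB1.tensorMod B (CohB1.tensorPow A w))
  | 0, _, _ => ⟨0, fun _ _ _ => ⟨0, Nat.zero_le _, le_rfl⟩⟩
  | r + 1, L, hL => by
    obtain ⟨e, he⟩ := exists_h0_slots hA (fun i : Fin r => L i.castSucc) fun i => hL _
    obtain ⟨f, hf⟩ := exists_slot k hA (hL (Fin.last r))
    refine ⟨e + f, fun B hB n => ?_⟩
    let T := Curv2.tensorPows (Coh.structureModule X) r (fun i => L i.castSucc) fun i => n i.castSucc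
    let E := CohB1.tensorPow (L (Fin.last r)) (n (Fin.last r))
    have hE : PicF.IsInvertible E := Groth.L18.Ample.isInvertible_tensorPow (hL _) _
    obtain ⟨w, hw, hle⟩ := he (CohB1.tensorMod B E) (Groth.L18.GenLoc.isInvertible_tensor hB hE)
      fun i => n i.castSucc
    let Aw := CohB1.tensorPow A w
    refine ⟨w + f * n (Fin.last r), ?_, ?_⟩
    · rw [Fin.sum_univ_castSucc, Nat.add_mul, Nat.mul_add, Nat.mul_add]
      omega
    · show h0 k (CohB1.tensorMod B (CohB1.tensorMod T E)) ≤ _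
      rw [h0_comm]
      refine hle.trans ((h0_swap k B Aw E).trans_le ?_)
      exact (hf (CohB1.tensorMod B Aw) (Groth.L18.GenLoc.isInvertible_tensor hB
        (Groth.L18.Ample.isInvertible_tensorPow hA.1 w)) _).trans_eq
        (h0_iso k (tensorAssoc B (CohB1.tensorPow A w) (CohB1.tensorPow A (f * n (Fin.last r))) ≪≫
          tensorIso (Iso.refl B) (tensorPowAdd A w (f * n (Fin.last r)))))

/-- `h⁰(L^n) = O((Σ n + 1)^d)` on an integral scheme. -/
theorem exists_h0_le_integral (hA : CohB1.IsAmple A) {d : ℕ} (hd : topologicalKrullDim X ≤ d) {r : ℕ}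
    {L : Fin r → X.Modules} (hL : ∀ i, PicF.IsInvertible (L i)) :
    ∃ C : ℕ, ∀ n : Fin r → ℕ,
      h0 k (Curv2.tensorPows (Coh.structureModule X) r L n) ≤ C * (∑ i, n i + 1) ^ d := by
  obtain ⟨C, hC⟩ := exists_h0_ample_le k hA hd
  obtain ⟨e, he⟩ := exists_h0_slots k hA L hL
  refine ⟨C * (e + 1) ^ d, fun n => ?_⟩
  obtain ⟨w, hw, hle⟩ := he (Coh.structureModule X) (Groth.L18.Ample.isInvertible_structureModule X) n
  rw [h0_iso k (tensorUnitLeft _), h0_iso k (tensorUnitLeft (CohB1.tensorPow A w))] at hle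
  refine hle.trans ((hC w).trans ?_)
  rw [Nat.mul_assoc, ← Nat.mul_pow]
  refine Nat.mul_le_mul_left _ (Nat.pow_le_pow_left ?_ d)
  rw [Nat.add_mul, Nat.mul_add, Nat.one_mul]
  omega

end Groth.L22.Big
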