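import Groth.Agent.L22.Big.Nef
import Groth.Agent.L03.Euler.Drop
import Groth.Agent.L22.CurveDeg.NonSpecial

/-!
The intersection form on an integral proper surface.
-/

set_option autoImplicit false
set_option backward.isDefEq.respectTransparency false
set_option linter.style.haveILetI false
set_option linter.unusedSectionVars false
universe u

open CategoryTheory CategoryTheory.Limits AlgebraicGeometry TopologicalSpace

noncomputable section

namespace Groth.L22.Big

open Groth.L22.Inter Groth.L22.Nef Groth.L03.Euler Groth.L16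
open Groth.L00.Tensor (tensorIso tensorAssoc tensorComm tensorUnitRight tensorUnitLeft tensorPowAdd)

variable (k : Type u) [Field k] {X : Scheme.{u}} [X.Over (Spec (CommRingCat.of k))]

/-- The intersection form. -/
def ii (A B : X.Modules) : ℚ := altT k (Fin.cons A fun _ : Fin 1 => B) (Coh.structureModule X)

variable [IsProper (X ↘ Spec (CommRingCat.of k))]

theorem ii_vec (A B : X.Modules) : altT k ![A, B] (Coh.structureModule X) = ii k A B :=
  congrArg (fun L => altT k L (Coh.structureModule X)) (funext fun i => by fin_cases i <;> rfl)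

theorem ii_comm (A B : X.Modules) : ii k A B = ii k B A := by
  rw [← ii_vec, ← ii_vec, ← altT_perm k ![A, B] (Equiv.swap 0 1)]
  exact congrArg (fun L => altT k L (Coh.structureModule X)) (funext fun i => by fin_cases i <;> rfl)

variable [IsIntegral X] (hdim : topologicalKrullDim X ≤ (2 : ℕ))
include hdim

theorem intNum_eq_ii (A B : X.Modules) :
    (FGA.intNum k X 2 ![A, B] (Coh.structureModule X) : ℚ) = ii k A B := by
  haveI := Groth.L21.RR.isNoetherian_of_proper (X := X) k
  rw [intNum_eq k hdim, ii_vec]
  ring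

theorem intNum_inv_eq_ii {A A' B B' : X.Modules} (hA : PicF.IsInvertible A) (hB : PicF.IsInvertible B)
    (hA' : Nonempty (CohB1.tensorMod A A' ≅ Coh.structureModule X))
    (hB' : Nonempty (CohB1.tensorMod B B' ≅ Coh.structureModule X)) :
    (FGA.intNum k X 2 ![A', B'] (Coh.structureModule X) : ℚ) = ii k A B := by
  have a := hA'.map fun e => tensorComm A' A ≪≫ e
  have b := hB'.map fun e => tensorComm B' B ≪≫ e
  rw [intNum_inv_eq k hdim (L := ![A, B]) (Fin.forall_fin_two.2 ⟨hA, hB⟩)
    (Fin.forall_fin_two.2 ⟨isInvertible_inv hA a, isInvertible_inv hB b⟩)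
    (Fin.forall_fin_two.2 ⟨a, b⟩), ii_vec]

theorem ii_tensor {A B C : X.Modules} (hA : PicF.IsInvertible A) (hB : PicF.IsInvertible B)
    (hC : PicF.IsInvertible C) : ii k (CohB1.tensorMod A B) C = ii k A C + ii k B C :=
  haveI := Groth.L21.RR.isNoetherian_of_proper (X := X) k
  altT_add k (fun _ => hC) hA hB CohClosedPush.isCoh_structure
    ((Groth.L22.Nakai.dim_support_structure X).trans_le hdim)

theorem ii_tensor_right {A B C : X.Modules} (hA : PicF.IsInvertible A) (hB : PicF.IsInvertible B)
    (hC : PicF.IsInvertible C) : ii k A (CohB1.tensorMod B C) = ii k A B + ii k A C := by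
  rw [ii_comm, ii_tensor k hdim hB hC hA, ii_comm k B, ii_comm k C]

theorem ii_pow {A C : X.Modules} (hA : PicF.IsInvertible A) (hC : PicF.IsInvertible C) (n : ℕ) :
    ii k (CohB1.tensorPow A n) C = n * ii k A C :=
  haveI := Groth.L21.RR.isNoetherian_of_proper (X := X) k
  altT_pow k (fun _ => hC) hA CohClosedPush.isCoh_structure
    ((Groth.L22.Nakai.dim_support_structure X).trans_le hdim) n

theorem ii_pow_right {A C : X.Modules} (hA : PicF.IsInvertible A) (hC : PicF.IsInvertible C) (n : ℕ) :
    ii k A (CohB1.tensorPow C n) = n * ii k A C := by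
  rw [ii_comm, ii_pow k hdim hC hA, ii_comm]

omit hdim in
theorem ii_congr {A A' : X.Modules} (e : A ≅ A') (C : X.Modules) : ii k A C = ii k A' C :=
  altT_slot_congr k e _ _

omit hdim in
theorem ii_eq_sub (A B : X.Modules) :
    ii k A B = altT k (fun _ : Fin 1 => B) A - altT k (fun _ : Fin 1 => B) (Coh.structureModule X) := by
  rw [ii, altT_cons, altT_iso k _ (tensorUnitLeft A)]

/-- The intersection with an effective module is a degree on its divisor. -/
theorem ii_eq_coker {N B : X.Modules} (hN : PicF.IsInvertible N) (hB : PicF.IsInvertible B)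
    (s : Coh.structureModule X ⟶ N) [Mono s] : ii k N B = altT k (fun _ : Fin 1 => B) (cokernel s) := by
  haveI := Groth.L21.RR.isNoetherian_of_proper (X := X) k
  have hker : altT k (fun _ : Fin 1 => B) (kernel s) = 0 := by
    rw [altT, twEuler_of_isZero k (fun _ => hB) (isZero_kernel_of_mono s), map_zero]
  have hmap := altT_map k (L := fun _ : Fin 1 => B) (fun _ => hB) CohClosedPush.isCoh_structure
    (Groth.L18.Ample.isCoh_of_isInvertible hN) s
  rw [hker] at hmap
  rw [ii_eq_sub]
  linarith

/-- Positivity against an ample module. -/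
theorem ii_effective {N H : X.Modules} (hN : PicF.IsInvertible N) (hH : CohB1.IsAmple H)
    (s : Coh.structureModule X ⟶ N) (hs : s ≠ 0) :
    0 < ii k N H ∨ ∀ B : X.Modules, PicF.IsInvertible B → ii k N B = 0 := by
  haveI := Groth.L21.RR.isNoetherian_of_proper (X := X) k
  haveI : Mono s := Groth.L22.Nakai.mono_of_injective (Groth.L18.Ample.isInvertible_structureModule X) s
    (bijective_stalk_section s (Groth.L22.CurveAmple.genericPoint_mem_genLocus hN hs)).1
  obtain ⟨hD, hη⟩ := cokernel_facts k (Groth.L18.Ample.isInvertible_structureModule X) hN s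
  have hd1 : topologicalKrullDim (CohB1.support (cokernel s)) ≤ (1 : ℕ) :=
    dim_le_of_generic_notMem (CohSupport.isClosed_support _ hD.2) hη hdim
  by_cases h : topologicalKrullDim (CohB1.support (cokernel s)) = (1 : ℕ)
  · obtain ⟨H', -, ⟨i⟩⟩ := Groth.L08.Cube.exists_inverse hH.1
    left
    rw [ii_eq_coker k hdim hN hH.1 s]
    exact (mixed k (fun _ : Fin 1 => H) (fun _ => H') (fun _ => hH) (fun _ => ⟨i⟩) hD hd1).2.2 h
  · refine Or.inr fun B hB => ?_
    rw [ii_eq_coker k hdim hN hB s]
    exact altT_eq_zero k (fun _ => hB) hD (Groth.L22.Inter.add_one_le_of_lt (lt_of_le_of_ne hd1 h))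

/-- A nontrivial effective module has positive degree. -/
theorem ii_effective_pos (hd2 : topologicalKrullDim X = (2 : ℕ)) {N H : X.Modules} (hN : PicF.IsInvertible N)
    (hH : CohB1.IsAmple H) (s : Coh.structureModule X ⟶ N) (hs : s ≠ 0)
    (hne : IsEmpty (Coh.structureModule X ≅ N)) : 0 < ii k N H := by
  haveI := Groth.L21.RR.isNoetherian_of_proper (X := X) k
  have hη := Groth.L22.CurveAmple.genericPoint_mem_genLocus hN hs
  haveI : Mono s := Groth.L22.Nakai.mono_of_injective (Groth.L18.Ample.isInvertible_structureModule X) s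
    (bijective_stalk_section s hη).1
  obtain ⟨hD, -⟩ := cokernel_facts k (Groth.L18.Ample.isInvertible_structureModule X) hN s
  obtain ⟨H', -, ⟨i⟩⟩ := Groth.L08.Cube.exists_inverse hH.1
  rw [ii_eq_coker k hdim hN hH.1 s]
  refine (mixed k (fun _ : Fin 1 => H) (fun _ => H') (fun _ => hH) (fun _ => ⟨i⟩) hD
    (dim_le_of_generic_notMem (CohSupport.isClosed_support _ hD.2)
      (cokernel_facts k (Groth.L18.Ample.isInvertible_structureModule X) hN s).2 hdim)).2.2 ?_
  refine le_antisymm (dim_le_of_generic_notMem (CohSupport.isClosed_support _ hD.2)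
    (cokernel_facts k (Groth.L18.Ample.isInvertible_structureModule X) hN s).2 hdim) ?_
  haveI : Coh.IsQCoh N := (Groth.L18.Ample.isCoh_of_isInvertible hN).1
  have hsupp : ∀ x, x ∈ CohB1.support (cokernel s) ↔ x ∉ CohB1.genLocus N s := fun x => by
    rw [← not_iff_not, not_not, Groth.L21.RR.mem_genLocus_iff hN, notMem_support_cokernel_iff]
    rfl
  have hne' : (CohB1.support (cokernel s)).Nonempty := by
    by_contra h0
    refine hne.false ?_
    haveI : Epi s := (Groth.L21.Mod.epi_iff_stalk_surjective s).2 fun x =>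
      (notMem_support_cokernel_iff s).1 fun hx => h0 ⟨x, hx⟩
    haveI : IsIso s := isIso_of_mono_of_epi s
    exact asIso s
  obtain ⟨z, hz, hmax⟩ := Devissage.exists_maximal_point (CohSupport.isClosed_support _ hD.2) hne'
  obtain ⟨m, hm, hm'⟩ := dim_closure_eq_add_one k hN s hη
    ((genericPoint_closure X).ge trivial) ((hsupp z).1 hz)
    fun w _ hws hwz => hmax w ((hsupp w).2 hws) hwz
  rw [genericPoint_closure, (IsHomeomorph.topologicalKrullDim_eq _ (Homeomorph.Set.univ X).isHomeomorph),
    hd2] at hm'
  have : m = 1 := by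
    have h1 : (2 : ℕ) = m + 1 := by exact_mod_cast hm'
    omega
  subst this
  exact hm ▸ topologicalKrullDim_set_mono
    (closure_minimal (Set.singleton_subset_iff.2 hz) (CohSupport.isClosed_support _ hD.2))

end Groth.L22.Big
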