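import Groth.Agent.L22.Big.SurfaceBasic
import Groth.Agent.L22.Nef.NumTriv

/-!
Effectiveness on integral proper surfaces, and the index inequality.
-/

set_option autoImplicit false
set_option backward.isDefEq.respectTransparency false
set_option linter.style.haveILetI false
set_option linter.unusedSectionVars false
universe u

open CategoryTheory CategoryTheory.Limits AlgebraicGeometry TopologicalSpace

noncomputable section

namespace Groth.L22.Big

open Groth.L22.Inter Groth.L22.Nef Groth.L03.Euler Groth.L16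
open Groth.L00.Tensor (tensorIso tensorAssoc tensorComm tensorUnitRight tensorUnitLeft tensorPowAdd)

variable (k : Type u) [Field k] {X : Scheme.{u}} [X.Over (Spec (CommRingCat.of k))]
  [IsProper (X ↘ Spec (CommRingCat.of k))]

/-- The dimension of the second cohomology. -/
def h2 (M : X.Modules) : ℕ := Module.finrank k (Coh.HH X M 2)

theorem h2_def (M : X.Modules) : h2 k M = Module.finrank k (Coh.HH X M 2) := rfl

attribute [irreducible] h2

theorem h2_iso {M N : X.Modules} (e : M ≅ N) : h2 k M = h2 k N := by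
  rw [h2_def, h2_def]; exact finrank_HH_of_iso e 2

theorem h2_le_of_shortExact {S : ShortComplex X.Modules} (hS : S.ShortExact) (h₁ : Coh.IsCoh S.X₁)
    (h₂ : Coh.IsCoh S.X₂) (h3 : Subsingleton (Coh.HH X S.X₃ 2)) :
    h2 k S.X₂ ≤ h2 k S.X₁ := by
  rw [h2_def, h2_def]
  haveI := ProperFinite.finite_HH k h₁ 2
  haveI := ProperFinite.finite_HH k h₂ 2
  rw [finrank_eq_add (CohLinear.overLin k (CohLinear.hmap S.f 2))
    (CohLinear.overLin k (CohLinear.hmap S.g 2)) (CohLinear.exact_hmap_hmap hS 2)]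
  have h0 : Module.finrank k (LinearMap.range (CohLinear.overLin k (CohLinear.hmap S.g 2))) = 0 :=
    Module.finrank_zero_of_subsingleton
  rw [h0, Nat.add_zero]
  exact LinearMap.finrank_range_le _

variable [IsIntegral X]

/-- A nonzero section of some positive power. -/
def IsEff (M : X.Modules) : Prop :=
  ∃ e : ℕ, 0 < e ∧ ∃ s : Coh.structureModule X ⟶ CohB1.tensorPow M e, s ≠ 0

theorem IsEff.congr {M N : X.Modules} (i : M ≅ N) (h : IsEff M) : IsEff N := by
  obtain ⟨e, he, s, hs⟩ := h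
  exact ⟨e, he, s ≫ (Groth.L00.Tensor.tensorPowIso i e).hom, fun h0 => hs ((cancel_mono _).1 (h0.trans zero_comp.symm))⟩

theorem IsEff.of_pow {M : X.Modules} {e : ℕ} (he : 0 < e) (h : IsEff (CohB1.tensorPow M e)) : IsEff M := by
  obtain ⟨f, hf, s, hs⟩ := h
  exact ⟨e * f, Nat.mul_pos he hf, s ≫ (Groth.L00.Tensor.tensorPowMul M e f).hom,
    fun h0 => hs ((cancel_mono _).1 (h0.trans zero_comp.symm))⟩

variable (hdim : topologicalKrullDim X ≤ (2 : ℕ))
include hdim

/-- Effective modules have bounded second cohomology, hence sections bounded below by `χ`. -/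
theorem exists_euler_le_h0 {M : X.Modules} (hM : PicF.IsInvertible M) (hE : IsEff M) :
    ∃ B : ℕ, ∀ n : ℕ, Curv2.euler k X (CohB1.tensorPow M n) ≤ (h0 k (CohB1.tensorPow M n) : ℤ) + B := by
  classical
  haveI := Groth.L21.RR.isNoetherian_of_proper (X := X) k
  obtain ⟨e, he, s, hs⟩ := hE
  obtain ⟨S, hS, h1, h₂', hD, hη⟩ := exists_section_seq k (Groth.L18.Ample.isInvertible_tensorPow hM e) s hs
  let f : ℕ → ℕ := fun n => h2 k (CohB1.tensorPow M n)
  have step : ∀ n, f (n + e) ≤ f n := fun n => by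
    have hG := Groth.L18.Ample.isInvertible_tensorPow hM n
    have hT := shortExact_tensor hG hS
    have c1 : Coh.IsCoh S.X₁ := h1 ▸ CohClosedPush.isCoh_structure
    have c2 : Coh.IsCoh S.X₂ := h₂' ▸ Groth.L18.Ample.isCoh_of_isInvertible (Groth.L18.Ample.isInvertible_tensorPow hM e)
    have hd1 : topologicalKrullDim (CohB1.support S.X₃) ≤ (1 : ℕ) :=
      dim_le_of_generic_notMem (CohSupport.isClosed_support _ hD.2) hη hdim
    have h3 : Subsingleton (Coh.HH X (CohB1.tensorMod S.X₃ (CohB1.tensorPow M n)) 2) :=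
      subsingleton_HH_of_support k (isCoh_tensor hG hD)
        ((support_tensor hG S.X₃).symm ▸ hd1) Nat.one_lt_two
    have key : h2 k (CohB1.tensorMod S.X₂ (CohB1.tensorPow M n)) ≤
        h2 k (CohB1.tensorMod S.X₁ (CohB1.tensorPow M n)) :=
      h2_le_of_shortExact k hT (isCoh_tensor hG c1) (isCoh_tensor hG c2) h3
    rw [h1, h₂', h2_iso k (tensorUnitLeft (CohB1.tensorPow M n)),
      h2_iso k (tensorPowAdd M e n), Nat.add_comm e n] at key
    exact key
  refine ⟨∑ r ∈ Finset.range e, f r, fun n => ?_⟩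
  have hfn : ∀ j r, f (r + e * j) ≤ f r := fun j => by
    induction j with
    | zero => exact fun r => le_rfl
    | succ j ih =>
      intro r
      rw [Nat.mul_succ, ← Nat.add_assoc]
      exact (step _).trans (ih r)
  have hb : f n ≤ ∑ r ∈ Finset.range e, f r := by
    have h4 := hfn (n / e) (n % e)
    rw [Nat.mod_add_div] at h4
    exact h4.trans (Finset.single_le_sum (f := f) (fun _ _ => Nat.zero_le _)
      (Finset.mem_range.2 (Nat.mod_lt _ he)))
  rw [euler_eq_sum (k := k) (N := 3) fun i hi => subsingleton_HH_of_dim hdim _ hi,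
    Finset.sum_range_succ, Finset.sum_range_succ, Finset.sum_range_one, ← h0_def, ← h2_def]
  have hb' := (Int.ofNat_le.2 hb)
  simp only [f] at hb'
  push_cast at hb' ⊢
  simp only [pow_zero, one_mul, pow_one, neg_one_mul, even_two, Even.neg_pow, one_pow]
  linarith

/-- `χ(M^n) ≥ (M·M) n²/2 - O(n)`. -/
theorem exists_le_euler {M : X.Modules} (hM : PicF.IsInvertible M) :
    ∃ S : ℚ, ∀ n : ℕ, 1 ≤ n →
      ii k M M / 2 * (n : ℚ) ^ 2 - S * n ≤ (Curv2.euler k X (CohB1.tensorPow M n) : ℚ) := by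
  haveI := Groth.L21.RR.isNoetherian_of_proper (X := X) k
  obtain ⟨P, hPd, hP⟩ := exists_isHilbPoly (k := k) hM CohClosedPush.isCoh_structure (d := 2)
    ((Groth.L22.Nakai.dim_support_structure X).trans_le hdim)
  have hc := Groth.L22.Nakai.altT_diag k M hP hPd
  have hii : ii k M M = altT k (fun _ : Fin 2 => M) (Coh.structureModule X) :=
    congrArg (fun L => altT k L (Coh.structureModule X)) (funext fun i => by fin_cases i <;> rfl)
  refine ⟨|P.coeff 0| + |P.coeff 1|, fun n hn => ?_⟩
  have hn' : (1 : ℚ) ≤ n := by exact_mod_cast hn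
  have e : (Curv2.euler k X (CohB1.tensorPow M n) : ℚ) = P.eval (n : ℚ) := by
    rw [← hP n]
    exact congrArg Int.cast (euler_iso (tensorUnitLeft _).symm)
  rw [e, Polynomial.eval_eq_sum_range' (Nat.lt_succ_of_le hPd), Finset.sum_range_succ,
    Finset.sum_range_succ, Finset.sum_range_one, hii, hc]
  norm_num [Nat.factorial]
  nlinarith [neg_abs_le (P.coeff 0), neg_abs_le (P.coeff 1), abs_nonneg (P.coeff 0), abs_nonneg (P.coeff 1)]

/-- Effective with positive self-intersection: sections in all large degrees. -/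
theorem eventually_h0_pos {M : X.Modules} (hM : PicF.IsInvertible M) (hE : IsEff M) (hpos : 0 < ii k M M) :
    ∃ N : ℕ, ∀ n, N ≤ n → 0 < h0 k (CohB1.tensorPow M n) := by
  obtain ⟨B, hB⟩ := exists_euler_le_h0 k hdim hM hE
  obtain ⟨S, hS⟩ := exists_le_euler k hdim hM
  obtain ⟨N, hN⟩ := exists_nat_gt (2 * (|S| + B + 1) / ii k M M)
  refine ⟨N + 1, fun n hn => ?_⟩
  have h1 := hS n (by omega)
  have h2 : (Curv2.euler k X (CohB1.tensorPow M n) : ℚ) ≤ (h0 k (CohB1.tensorPow M n) : ℚ) + B := by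
    exact_mod_cast hB n
  rw [div_lt_iff₀ hpos] at hN
  have hn' : (N : ℚ) + 1 ≤ n := by exact_mod_cast hn
  have h4 : |S| + B + 1 < ii k M M / 2 * n := by nlinarith
  have : (0 : ℚ) < (h0 k (CohB1.tensorPow M n) : ℚ) := by
    nlinarith [mul_lt_mul_of_pos_right h4 (by linarith : (0 : ℚ) < n), le_abs_self S,
      mul_le_mul_of_nonneg_right (le_abs_self S) (by linarith : (0 : ℚ) ≤ n), Nat.cast_nonneg (α := ℚ) B]
  exact_mod_cast this

/-- Positive self-intersection and positive degree: some power has a nonzero section. -/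
theorem isEff_of_pos {N H : X.Modules} (hN : PicF.IsInvertible N) (hH : CohB1.IsAmple H)
    (hNN : 0 < ii k N N) (hNH : 0 < ii k N H) : IsEff N := by
  classical
  haveI := Groth.L21.RR.isNoetherian_of_proper (X := X) k
  obtain ⟨e, he, hA, s, hs⟩ := exists_section_pow k hH
  let A := CohB1.tensorPow H e
  have hNA : 0 < ii k N A := by
    rw [ii_pow_right k hdim hN hH.1]; exact mul_pos (Nat.cast_pos.2 he) hNH
  have hAA : 0 ≤ ii k A A := by
    rcases ii_effective k hdim hA.1 hA s hs with h | h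
    · exact h.le
    · exact (h A hA.1).ge
  obtain ⟨A', hA', ⟨ι⟩⟩ := Groth.L08.Cube.exists_inverse hA.1
  obtain ⟨S, hS, h1, h2, hD, hη⟩ := exists_section_seq k hA.1 s hs
  obtain ⟨C, hC⟩ := exists_h0_le k hA (L := ![N, A, A'])
    (Fin.forall_fin_succ.2 ⟨hN, Fin.forall_fin_two.2 ⟨hA.1, hA'⟩⟩) hD
    (dim_le_of_generic_notMem (CohSupport.isClosed_support _ hD.2) hη hdim)
  obtain ⟨t, ht⟩ := exists_ample_twist (k := k) hA hN
  let T := t + 1
  obtain ⟨K, hK⟩ := exists_nat_gt (2 * ((C : ℚ) * (T + 3) + 1) / ii k N N)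
  rw [div_lt_iff₀ hNN] at hK
  have hK1 : 1 ≤ K := Nat.one_le_iff_ne_zero.2 fun h0 => by
    subst h0
    rw [Nat.cast_zero, zero_mul] at hK
    linarith [show (0 : ℚ) ≤ (C : ℚ) * (T + 3) by positivity]
  let W : ℕ → X.Modules := fun p => CohB1.tensorMod (CohB1.tensorPow N K) (CohB1.tensorPow A p)
  have hW : ∀ p, PicF.IsInvertible (W p) := fun p => isInvertible_mix hN hA.1 K p
  have top : IsEff (W (T * K)) := by
    let G := CohB1.tensorMod N (CohB1.tensorPow A T)
    have hG : CohB1.IsAmple G := Groth.L18.Ample.isAmple_of_iso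
      ((tensorAssoc A N _).symm ≪≫ tensorIso (tensorComm A N) (Iso.refl _) ≪≫ tensorAssoc N A _ ≪≫
        tensorIso (Iso.refl N) (tensorComm A _)) ht
    have hGK : CohB1.IsAmple (CohB1.tensorPow G K) := (Groth.L18.Ample.isAmple_pow_iff hG.1 hK1).1 hG
    obtain ⟨f, hf, -, σ, hσ⟩ := exists_section_pow k hGK
    exact IsEff.congr (Groth.L00.Tensor.tensorPowTensor N _ K ≪≫
      tensorIso (Iso.refl _) (Groth.L00.Tensor.tensorPowMul A T K)) ⟨f, hf, σ, hσ⟩
  have down : ∀ p, p + 1 ≤ T * K → IsEff (W (p + 1)) → IsEff (W p) := by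
    intro p hp hE
    let M := W (p + 1)
    have hM : PicF.IsInvertible M := hW (p + 1)
    obtain ⟨B, hB⟩ := exists_euler_le_h0 k hdim hM hE
    obtain ⟨S', hS'⟩ := exists_le_euler k hdim hM
    have hMM : (K : ℚ) ^ 2 * ii k N N ≤ ii k M M := by
      have hx := Groth.L18.Ample.isInvertible_tensorPow hN K
      have hy := Groth.L18.Ample.isInvertible_tensorPow hA.1 (p + 1)
      simp only [M, W]
      rw [ii_tensor k hdim hx hy (isInvertible_mix hN hA.1 K (p + 1)), ii_tensor_right k hdim hx hx hy,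
        ii_tensor_right k hdim hy hx hy, ii_pow k hdim hN hx, ii_pow k hdim hN hy, ii_pow k hdim hA.1 hx,
        ii_pow k hdim hA.1 hy, ii_pow_right k hdim hN hN, ii_pow_right k hdim hN hA.1,
        ii_pow_right k hdim hA.1 hN, ii_pow_right k hdim hA.1 hA.1, ii_comm k A N]
      nlinarith [mul_nonneg (mul_nonneg (Nat.cast_nonneg (α := ℚ) K) (Nat.cast_nonneg (α := ℚ) (p + 1))) hNA.le,
        mul_nonneg (mul_self_nonneg ((p + 1 : ℕ) : ℚ)) hAA]
    let G : ℕ → ℕ → X.Modules := fun n j => CohB1.tensorMod (CohB1.tensorPow M n) (CohB1.tensorPow A' j)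
    have hsub : ∀ n j : ℕ, j ≤ n →
        h0 k (CohB1.tensorPow M n) ≤ h0 k (G n j) + j * (C * (n * (K + p + 3))) := by
      intro n j
      induction j with
      | zero => exact fun _ => (h0_iso k (tensorUnitRight _)).ge.trans (Nat.le_add_right _ _)
      | succ j ih =>
        intro hjn
        let P := G n (j + 1)
        have hP : PicF.IsInvertible P := isInvertible_mix hM hA' n (j + 1)
        have hT' := shortExact_tensor hP hS
        have c1 : Coh.IsCoh S.X₁ := h1 ▸ CohClosedPush.isCoh_structure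
        have c2 : Coh.IsCoh S.X₂ := h2 ▸ Groth.L18.Ample.isCoh_of_isInvertible hA.1
        have key : h0 k (CohB1.tensorMod S.X₂ P) ≤
            h0 k (CohB1.tensorMod S.X₁ P) + h0 k (CohB1.tensorMod S.X₃ P) :=
          h0_le_add k hT' (isCoh_tensor hP c1) (isCoh_tensor hP c2) (isCoh_tensor hP hD)
        have e2 : h0 k (CohB1.tensorMod S.X₂ P) = h0 k (G n j) := by
          rw [h2]
          exact h0_iso k (tensorComm _ _ ≪≫ tensorAssoc _ _ _ ≪≫ tensorIso (Iso.refl _)
            (tensorAssoc _ _ _ ≪≫ tensorIso (Iso.refl _) (tensorComm A' A ≪≫ ι) ≪≫ tensorUnitRight _))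
        have e1 : h0 k (CohB1.tensorMod S.X₁ P) = h0 k P := by rw [h1]; exact h0_iso k (tensorUnitLeft P)
        have e3 : h0 k (CohB1.tensorMod S.X₃ P) ≤ C * (n * (K + p + 3)) := by
          have π : Curv2.tensorPows (Coh.structureModule X) 3 ![N, A, A'] ![K * n, (p + 1) * n, j + 1] ≅ P :=
            tensorIso (tensorIso (tensorUnitLeft _) (Iso.refl _) ≪≫
              tensorIso (Groth.L00.Tensor.tensorPowMul N K n).symm (Groth.L00.Tensor.tensorPowMul A (p + 1) n).symm ≪≫
              (Groth.L00.Tensor.tensorPowTensor _ _ n).symm) (Iso.refl _)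
          rw [← h0_iso k (tensorIso (Iso.refl S.X₃) π)]
          refine (hC ![K * n, (p + 1) * n, j + 1]).trans ?_
          rw [pow_one]
          refine Nat.mul_le_mul_left C ?_
          simp [Fin.sum_univ_three]
          nlinarith
        rw [e1, e2] at key
        change h0 k (G n j) ≤ h0 k (G n (j + 1)) + _ at key
        have := ih (by omega)
        have := key.trans (Nat.add_le_add_left e3 _)
        rw [Nat.succ_mul]
        omega
    obtain ⟨n, hn⟩ := exists_nat_gt (|S'| + B + 1)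
    have hn1 : 1 ≤ n := Nat.one_le_iff_ne_zero.2 fun h0 => by
      subst h0
      simp at hn
      linarith [abs_nonneg S', Nat.cast_nonneg (α := ℚ) B]
    have hn' : (1 : ℚ) ≤ n := by exact_mod_cast hn1
    have b1 : ii k M M / 2 * (n : ℚ) ^ 2 - S' * n ≤ (h0 k (CohB1.tensorPow M n) : ℚ) + B :=
      (hS' n hn1).trans (by exact_mod_cast hB n)
    have b2 : (h0 k (CohB1.tensorPow M n) : ℚ) ≤ h0 k (G n n) + n * (C * (n * (K + p + 3))) := by
      exact_mod_cast hsub n n le_rfl
    have b3 : (C : ℚ) * (K + p + 3) + 1 ≤ ii k M M / 2 := by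
      have hp' : (p : ℚ) + 1 ≤ T * K := by exact_mod_cast hp
      have hK' : (1 : ℚ) ≤ K := by exact_mod_cast hK1
      have hT0 : (0 : ℚ) ≤ T := Nat.cast_nonneg _
      have h5 : (K : ℚ) + p + 3 ≤ K * (T + 3) := by nlinarith
      have h6 := mul_le_mul_of_nonneg_left h5 (Nat.cast_nonneg (α := ℚ) C)
      have h7 : (C : ℚ) * (K * (T + 3)) + 1 ≤ K * ((C : ℚ) * (T + 3) + 1) := by nlinarith
      have h8 : (K : ℚ) * ((C : ℚ) * (T + 3) + 1) ≤ K * (K * ii k N N / 2) :=
        mul_le_mul_of_nonneg_left (by linarith) (Nat.cast_nonneg _)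
      nlinarith
    have hpos : (0 : ℚ) < h0 k (G n n) := by
      have h9 := mul_le_mul_of_nonneg_right b3 (sq_nonneg (n : ℚ))
      have h10 : S' * n + B < (n : ℚ) ^ 2 := by
        nlinarith [mul_le_mul_of_nonneg_right (le_abs_self S') (by linarith : (0 : ℚ) ≤ n),
          mul_lt_mul_of_pos_right hn (by linarith : (0 : ℚ) < n), Nat.cast_nonneg (α := ℚ) B]
      nlinarith
    obtain ⟨σ, hσ⟩ := exists_nonzero_of_h0 k (N := G n n) (by exact_mod_cast hpos)
    let j : G n n ≅ CohB1.tensorPow (W p) n :=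
      (Groth.L00.Tensor.tensorPowTensor M A' n).symm ≪≫ Groth.L00.Tensor.tensorPowIso
        (tensorAssoc _ _ _ ≪≫ tensorIso (Iso.refl _) (tensorAssoc _ _ _ ≪≫
          tensorIso (Iso.refl _) ι ≪≫ tensorUnitRight _)) n
    exact ⟨n, hn1, σ ≫ j.hom, fun h0 => hσ ((cancel_mono _).1 (h0.trans zero_comp.symm))⟩
  have bot : ∀ p, p ≤ T * K → IsEff (W p) → IsEff (W 0) := by
    intro p
    induction p with
    | zero => exact fun _ h => h
    | succ p ih => exact fun hp h => ih (by omega) (down p hp h)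
  exact IsEff.of_pow hK1 (IsEff.congr (tensorUnitRight _) (bot _ le_rfl top))

theorem ii_pos_of_eff {N H : X.Modules} (hN : PicF.IsInvertible N) (hH : CohB1.IsAmple H)
    (hNN : 0 < ii k N N) (hE : IsEff N) : 0 < ii k N H := by
  obtain ⟨e, he, s, hs⟩ := hE
  have he' : (0 : ℚ) < e := Nat.cast_pos.2 he
  rcases ii_effective k hdim (Groth.L18.Ample.isInvertible_tensorPow hN e) hH s hs with h | h
  · rw [ii_pow k hdim hN hH.1] at h
    exact pos_of_mul_pos_right h he'.le
  · have h1 := h N hN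
    rw [ii_pow k hdim hN hN] at h1
    nlinarith

/-- The index inequality. -/
theorem ii_nonpos_of_orth {N H : X.Modules} (hN : PicF.IsInvertible N) (hH : CohB1.IsAmple H)
    (horth : ii k N H = 0) : ii k N N ≤ 0 := by
  by_contra h
  rw [not_le] at h
  obtain ⟨t, ht⟩ := exists_ample_twist (k := k) hH hN
  have hHt := Groth.L18.Ample.isInvertible_tensorPow hH.1 t
  have hNt := Groth.L18.GenLoc.isInvertible_tensor hN hHt
  have h1 : ii k N (CohB1.tensorMod H (CohB1.tensorMod N (CohB1.tensorPow H t))) = ii k N N := by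
    rw [ii_tensor_right k hdim hN hH.1 hNt, ii_tensor_right k hdim hN hN hHt,
      ii_pow_right k hdim hN hH.1, horth]
    ring
  have h2 := ii_pos_of_eff k hdim hN hH h (isEff_of_pos k hdim hN ht h (h1 ▸ h))
  linarith

end Groth.L22.Big
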